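import Mathlib
import Cfsg.Agent.H199.PslAut
import Cfsg.Agent.Schreier.ClassBase

/-!
# S5749, S5750, box NOFIX: the outer automorphisms of `PSL₂(K)` (helper8)

* `fa : Aut PSL₂(K) →* Aut K`, `ds : Aut PSL₂(K) →* Kˣ / squares`; `inner_of` : the intersection of the kernels consists of
  inner automorphisms;
* `comm_inner`, `pow_inner`.
-/

set_option autoImplicit false

namespace Cfsg.Agent.R2.H8.NoFix.Aut

open Matrix Cfsg.Agent.H199.PslAut
open Cfsg.Agent.ClassicalGeometry.AutPSL.Root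
open Cfsg.Agent.ClassicalGeometry.AutPSL.Auto

variable {K : Type*} [Field K]

theorem ind_unique {g h : GL (Fin 2) K} {σ τ : K ≃+* K} (e : Psi 2 K g * phi 2 K σ = Psi 2 K h * phi 2 K τ) :
    (∃ u : Kˣ, g = h * scal 2 K u) ∧ σ = τ := by
  have h1 : Psi 2 K (h⁻¹ * g) * phi 2 K σ = phi 2 K τ := by
    rw [map_mul, map_inv, mul_assoc, e, ← mul_assoc, inv_mul_cancel, one_mul]
  obtain ⟨⟨u, hu⟩, h2⟩ := Psi_phi_eq le_rfl h1
  exact ⟨⟨u, by rw [← hu, mul_inv_cancel_left]⟩, h2⟩

theorem det_scal (u : Kˣ) : Matrix.GeneralLinearGroup.det (scal 2 K u) = u ^ 2 := by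
  apply Units.ext
  rw [Matrix.GeneralLinearGroup.val_det_apply, coe_scal, Matrix.scalar_apply, Matrix.det_diagonal, Finset.prod_const,
    Finset.card_univ, Fintype.card_fin, Units.val_pow_eq_pow_val]

theorem det_mapGL (σ : K ≃+* K) (g : GL (Fin 2) K) : Matrix.GeneralLinearGroup.det (mapGL σ g) =
    Units.map (σ : K →* K) (Matrix.GeneralLinearGroup.det g) := by
  apply Units.ext
  rw [Matrix.GeneralLinearGroup.val_det_apply, coe_mapGL]
  show _ = σ _
  rw [Matrix.GeneralLinearGroup.val_det_apply]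
  exact (RingHom.map_det (σ : K →+* K) _).symm

/-- the group `Kˣ / squares` -/
abbrev Sq (K : Type*) [Field K] : Type _ := Kˣ ⧸ (powMonoidHom 2 : Kˣ →* Kˣ).range

theorem mk_sq (u : Kˣ) : (QuotientGroup.mk (u ^ 2) : Sq K) = 1 := by
  rw [QuotientGroup.eq_one_iff]
  exact ⟨u, rfl⟩

section fin

variable [Fintype K]

theorem exists_ind (α : MulAut (ProjectiveSpecialLinearGroup (Fin 2) K)) :
    ∃ z : GL (Fin 2) K × (K ≃+* K), α = Psi 2 K z.1 * phi 2 K z.2 := by
  rcases exists_form le_rfl α with ⟨g, σ, h⟩ | ⟨h, -⟩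
  · exact ⟨(g, σ), h⟩
  · omega

/-- powers of the Frobenius automorphism -/
theorem exists_pow (p : ℕ) [Fact p.Prime] [CharP K p] (σ : K ≃+* K) : ∃ n : ℕ, ∀ x, σ x = x ^ p ^ n := by
  let _ : Algebra (ZMod p) K := ZMod.algebra K p
  let s : K ≃ₐ[ZMod p] K := AlgEquiv.ofRingEquiv (f := σ) (fun x => by
    have h1 : (σ : K →+* K).comp (algebraMap (ZMod p) K) = algebraMap (ZMod p) K := Subsingleton.elim _ _
    exact RingHom.congr_fun h1 x)
  obtain ⟨n, hn⟩ := (FiniteField.bijective_frobeniusAlgEquivOfAlgebraic_pow (ZMod p) K).2 s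
  refine ⟨n.1, fun x => ?_⟩
  have h1 : s x = σ x := rfl
  rw [← h1, ← hn]
  show (FiniteField.frobeniusAlgEquivOfAlgebraic (ZMod p) K ^ (n : ℕ)) x = _
  have h2 : ∀ m : ℕ, (FiniteField.frobeniusAlgEquivOfAlgebraic (ZMod p) K ^ m) x = x ^ p ^ m := by
    intro m
    induction m with
    | zero => rw [pow_zero, pow_zero, pow_one]; rfl
    | succ m ih =>
      rw [pow_succ', AlgEquiv.mul_apply, ih, pow_succ, pow_mul]
      show (x ^ p ^ m) ^ (Fintype.card (ZMod p)) = _
      rw [ZMod.card]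
  exact h2 n

/-- field automorphisms act trivially on `Kˣ / squares` -/
theorem mk_map (σ : K ≃+* K) (u : Kˣ) : (QuotientGroup.mk (Units.map (σ : K →* K) u) : Sq K) = QuotientGroup.mk u := by
  obtain ⟨p, hp⟩ := CharP.exists K
  have hprime : Fact p.Prime := ⟨CharP.char_is_prime K p⟩
  obtain ⟨n, hn⟩ := exists_pow p σ
  have h1 : Units.map (σ : K →* K) u = u ^ p ^ n := Units.ext (by
    rw [Units.val_pow_eq_pow_val]
    exact hn _)
  rw [h1]
  rcases hprime.out.eq_two_or_odd' with h2 | h2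
  · -- every element is a square
    have h3 : ∀ v : Kˣ, (QuotientGroup.mk v : Sq K) = 1 := by
      intro v
      obtain ⟨w, hw⟩ := FiniteField.isSquare_of_char_two (F := K) (ringChar.eq K p ▸ h2) (v : K)
      have hw0 : w ≠ 0 := by
        rintro rfl
        exact v.ne_zero (by rw [hw, mul_zero])
      have h4 : v = (Units.mk0 w hw0) ^ 2 := Units.ext (by
        rw [Units.val_pow_eq_pow_val, hw, sq]
        rfl)
      rw [h4, mk_sq]
    rw [h3, h3]
  · obtain ⟨m, hm⟩ := h2.pow (n := n)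
    rw [hm, pow_add, pow_one, pow_mul, QuotientGroup.mk_mul, QuotientGroup.mk_pow, mk_sq, one_pow, one_mul]

/-- the field part -/
noncomputable def fa (K : Type*) [Field K] [Fintype K] :
    MulAut (ProjectiveSpecialLinearGroup (Fin 2) K) →* (K ≃+* K) :=
  MonoidHom.mk' (fun α => (exists_ind α).choose.2) (by
    intro α β
    have h1 := (exists_ind α).choose_spec
    have h2 := (exists_ind β).choose_spec
    have h3 := (exists_ind (α * β)).choose_spec
    refine (ind_unique (h := (exists_ind α).choose.1 * mapGL (exists_ind α).choose.2 (exists_ind β).choose.1)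
      (h3.symm.trans ?_)).2
    conv_lhs => rw [h1, h2]
    rw [map_mul, map_mul, mul_assoc, ← mul_assoc (phi 2 K _) (Psi 2 K _), phi_mul_Psi]
    simp only [mul_assoc])

theorem fa_of {α : MulAut (ProjectiveSpecialLinearGroup (Fin 2) K)} {g : GL (Fin 2) K} {σ : K ≃+* K}
    (h : α = Psi 2 K g * phi 2 K σ) : fa K α = σ :=
  (ind_unique ((exists_ind α).choose_spec.symm.trans h)).2

theorem fa_spec (α : MulAut (ProjectiveSpecialLinearGroup (Fin 2) K)) : ∃ g, α = Psi 2 K g * phi 2 K (fa K α) :=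
  ⟨_, (exists_ind α).choose_spec⟩

theorem mk_det_eq {g h : GL (Fin 2) K} {u : Kˣ} (e : g = h * scal 2 K u) :
    (QuotientGroup.mk (Matrix.GeneralLinearGroup.det g) : Sq K) = QuotientGroup.mk (Matrix.GeneralLinearGroup.det h) := by
  rw [e, map_mul, QuotientGroup.mk_mul, det_scal, mk_sq, mul_one]

/-- the diagonal part -/
noncomputable def ds (K : Type*) [Field K] [Fintype K] : MulAut (ProjectiveSpecialLinearGroup (Fin 2) K) →* Sq K :=
  MonoidHom.mk' (fun α => QuotientGroup.mk (Matrix.GeneralLinearGroup.det (exists_ind α).choose.1)) (by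
    intro α β
    have h1 := (exists_ind α).choose_spec
    have h2 := (exists_ind β).choose_spec
    have h3 := (exists_ind (α * β)).choose_spec
    obtain ⟨u, hu⟩ := (ind_unique (h := (exists_ind α).choose.1 * mapGL (exists_ind α).choose.2 (exists_ind β).choose.1)
      (τ := (exists_ind α).choose.2 * (exists_ind β).choose.2)
      (h3.symm.trans (by
        conv_lhs => rw [h1, h2]
        rw [map_mul, map_mul, mul_assoc, ← mul_assoc (phi 2 K _) (Psi 2 K _), phi_mul_Psi]
        simp only [mul_assoc]))).1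
    rw [mk_det_eq hu, map_mul, QuotientGroup.mk_mul, det_mapGL, mk_map])

theorem ds_of {α : MulAut (ProjectiveSpecialLinearGroup (Fin 2) K)} {g : GL (Fin 2) K} {σ : K ≃+* K}
    (h : α = Psi 2 K g * phi 2 K σ) : ds K α = QuotientGroup.mk (Matrix.GeneralLinearGroup.det g) := by
  obtain ⟨u, hu⟩ := (ind_unique ((exists_ind α).choose_spec.symm.trans h)).1
  exact mk_det_eq hu

/-- **the kernel of `(fa, ds)`** -/
theorem inner_of {α : MulAut (ProjectiveSpecialLinearGroup (Fin 2) K)} (h1 : fa K α = 1) (h2 : ds K α = 1) :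
    ∃ a, α = MulAut.conj a := by
  obtain ⟨g, hg⟩ := fa_spec α
  rw [ds_of hg, QuotientGroup.eq_one_iff] at h2
  obtain ⟨u, hu⟩ := h2
  have hu' : u ^ 2 = Matrix.GeneralLinearGroup.det g := hu
  rw [h1, map_one, mul_one] at hg
  have h3 : Matrix.GeneralLinearGroup.det ((scal 2 K u)⁻¹ * g) = 1 := by
    rw [map_mul, map_inv, det_scal, hu', inv_mul_cancel]
  have h4 : (((scal 2 K u)⁻¹ * g : GL (Fin 2) K) : Matrix (Fin 2) (Fin 2) K).det = 1 := by
    have h5 := congrArg Units.val h3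
    rwa [Matrix.GeneralLinearGroup.val_det_apply, Units.val_one] at h5
  let s : SpecialLinearGroup (Fin 2) K := ⟨_, h4⟩
  have h5 : (s : GL (Fin 2) K) = (scal 2 K u)⁻¹ * g := Units.ext rfl
  refine ⟨pr s, ?_⟩
  rw [← Psi_coe s, hg, h5, map_mul, map_inv, Psi_scal, inv_one, one_mul]

theorem comm_inner (α β : MulAut (ProjectiveSpecialLinearGroup (Fin 2) K)) :
    ∃ a, α * β * α⁻¹ * β⁻¹ = MulAut.conj a := by
  apply inner_of
  · rw [map_mul, map_mul, map_mul, map_inv, map_inv, Cfsg.Agent.Schreier.ClassBase.ringAut_comm (fa K α) (fa K β),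
      mul_inv_cancel_right, mul_inv_cancel]
  · rw [map_mul, map_mul, map_mul, map_inv, map_inv, mul_comm (ds K α) (ds K β), mul_inv_cancel_right, mul_inv_cancel]

theorem ds_sq (α : MulAut (ProjectiveSpecialLinearGroup (Fin 2) K)) : ds K α ^ 2 = 1 := by
  obtain ⟨g, hg⟩ := fa_spec α
  rw [ds_of hg, ← QuotientGroup.mk_pow, mk_sq]

theorem ds_two [CharP K 2] (α : MulAut (ProjectiveSpecialLinearGroup (Fin 2) K)) : ds K α = 1 := by
  obtain ⟨g, hg⟩ := fa_spec α
  rw [ds_of hg]
  obtain ⟨w, hw⟩ := FiniteField.isSquare_of_char_two (F := K) (ringChar.eq K 2)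
    (Matrix.GeneralLinearGroup.det g : K)
  have hw0 : w ≠ 0 := by
    rintro rfl
    exact (Matrix.GeneralLinearGroup.det g).ne_zero (by rw [hw, mul_zero])
  have h4 : Matrix.GeneralLinearGroup.det g = (Units.mk0 w hw0) ^ 2 := Units.ext (by
    rw [Units.val_pow_eq_pow_val, hw, sq]
    rfl)
  rw [h4, mk_sq]

theorem pow_inner {α : MulAut (ProjectiveSpecialLinearGroup (Fin 2) K)} {N : ℕ} (h : fa K α ^ N = 1)
    (hN : Even N ∨ CharP K 2) : ∃ a, α ^ N = MulAut.conj a := by
  apply inner_of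
  · rw [map_pow, h]
  · rcases hN with ⟨m, hm⟩ | hN
    · rw [map_pow, hm, ← two_mul, pow_mul, ds_sq, one_pow]
    · rw [map_pow, ds_two, one_pow]

end fin

end Cfsg.Agent.R2.H8.NoFix.Aut
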