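import Mathlib
import Cfsg.Agent.R2.SL2.Bridge
import Cfsg.Agent.R2.H28.SL2.Tens

/-!
# S5749, S5750, box NOFIX: cyclic shifts of the digits (helper8)

* `cyc p a b` : the cyclic shift of the `a` digits of `b`; `dg_cyc`, `tyl_cyc`, `chB_cyc`;
* `map_iter_eq` : a multiset of labels whose character is invariant under `z ↦ z ^ (p ^ j)` is invariant under the shift by
  `j`;
* `dvd_of_inv` : in a multiset invariant under the shift by `j`, `a = j * n`, the number of labels of type `t` is such that
  `n ∣ t.length * count`.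
-/

set_option autoImplicit false
set_option linter.unusedSectionVars false

namespace Cfsg.Agent.R2.H8.NoFix.Shift

open Cfsg.Agent.R2.SL2 Cfsg.Agent.R2.H28.SL2
open Cfsg.Agent.H943.SL2Mod (mem_Bf Bf)

/-- the cyclic shift -/
def cyc (p a b : ℕ) : ℕ := p * (b % p ^ (a - 1)) + b / p ^ (a - 1)

section num

variable {p : ℕ} [hp : Fact p.Prime] {a : ℕ}

theorem top_lt (ha : 1 ≤ a) {b : ℕ} (hb : b < p ^ a) : b / p ^ (a - 1) < p := by
  rw [Nat.div_lt_iff_lt_mul (pow_pos hp.out.pos _), ← pow_succ', Nat.sub_add_cancel ha]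
  exact hb

theorem cyc_lt (ha : 1 ≤ a) {b : ℕ} (hb : b < p ^ a) : cyc p a b < p ^ a := by
  have h1 := top_lt ha hb
  have h2 : b % p ^ (a - 1) < p ^ (a - 1) := Nat.mod_lt _ (pow_pos hp.out.pos _)
  have h3 : p ^ a = p * p ^ (a - 1) := by rw [← pow_succ', Nat.sub_add_cancel ha]
  rw [cyc, h3]
  calc p * (b % p ^ (a - 1)) + b / p ^ (a - 1) < p * (b % p ^ (a - 1)) + p := by omega
    _ = p * (b % p ^ (a - 1) + 1) := by ring
    _ ≤ _ := Nat.mul_le_mul_left _ h2

/-- the digits of the shift -/
theorem dg_cyc (ha : 1 ≤ a) {b : ℕ} (hb : b < p ^ a) {i : ℕ} (hi : i < a) :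
    cyc p a b / p ^ ((i + 1) % a) % p = b / p ^ i % p := by
  have h1 := top_lt ha hb
  by_cases h : i + 1 = a
  · rw [h, Nat.mod_self, pow_zero, Nat.div_one, cyc, Nat.mul_add_mod, Nat.mod_eq_of_lt h1,
      show i = a - 1 by omega, Nat.mod_eq_of_lt h1]
  · rw [Nat.mod_eq_of_lt (show i + 1 < a by omega), pow_succ', ← Nat.div_div_eq_div_mul, cyc,
      Nat.mul_add_div hp.out.pos, Nat.div_eq_of_lt h1, add_zero]
    obtain ⟨m, hm⟩ : ∃ m, a - 1 = i + 1 + m := ⟨a - 1 - (i + 1), by omega⟩
    rw [hm]
    have h2 : b % p ^ (i + 1 + m) / p ^ i = b / p ^ i % p ^ (1 + m) := by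
      rw [add_assoc, pow_add, Nat.mod_mul_right_div_self]
    rw [h2, pow_add, pow_one, Nat.mod_mul_right_mod]

theorem typ_eq (n : ℕ) : ∀ {b : ℕ}, b < p ^ n →
    typ p b = ((Multiset.range n).map fun i => b / p ^ i % p).filter fun d => d ≠ 0 := by
  induction n with
  | zero =>
    intro b hb
    rw [pow_zero, Nat.lt_one_iff] at hb
    rw [hb, typ_zero]
    rfl
  | succ n ih =>
    intro b hb
    have h1 : b / p < p ^ n := by
      rw [Nat.div_lt_iff_lt_mul hp.out.pos, ← pow_succ]
      exact hb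
    have h2 : ((Multiset.range (n + 1)).map fun i => b / p ^ i % p) =
        (b % p) ::ₘ ((Multiset.range n).map fun i => b / p / p ^ i % p) := by
      have h3 : Multiset.range (n + 1) = 0 ::ₘ (Multiset.range n).map Nat.succ := by
        show ((List.range (n + 1) : List ℕ) : Multiset ℕ) = _
        rw [List.range_succ_eq_map]
        rfl
      rw [h3, Multiset.map_cons, Multiset.map_map, pow_zero, Nat.div_one]
      congr 1
      refine Multiset.map_congr rfl fun i _ => ?_
      rw [Function.comp_apply, Nat.succ_eq_add_one, pow_succ', ← Nat.div_div_eq_div_mul]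
    rw [h2]
    by_cases hb0 : b = 0
    · rw [hb0, typ_zero]
      symm
      rw [Multiset.filter_eq_nil]
      intro d hd
      rw [Multiset.mem_cons, Multiset.mem_map] at hd
      rcases hd with rfl | ⟨i, -, rfl⟩
      · simp
      · simp
    · rw [typ_step hp.out.one_lt hb0, ih h1, Multiset.filter_cons]
      congr 1
      by_cases h4 : b % p = 0
      · rw [if_pos h4, if_neg (by simpa using h4)]
      · rw [if_neg h4, if_pos h4]

/-- the shift as a permutation of the positions -/
theorem map_succ_mod (ha : 1 ≤ a) : (Multiset.range a).map (fun i => (i + 1) % a) = Multiset.range a := by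
  obtain ⟨n, rfl⟩ : ∃ n, a = n + 1 := ⟨a - 1, by omega⟩
  have h3 : Multiset.range (n + 1) = 0 ::ₘ (Multiset.range n).map Nat.succ := by
    show ((List.range (n + 1) : List ℕ) : Multiset ℕ) = _
    rw [List.range_succ_eq_map]
    rfl
  conv_lhs => rw [Multiset.range_succ]
  rw [Multiset.map_cons, Nat.mod_self, h3]
  congr 1
  refine Multiset.map_congr rfl fun i hi => ?_
  rw [Multiset.mem_range] at hi
  exact Nat.mod_eq_of_lt (by omega)

theorem typ_cyc (ha : 1 ≤ a) {b : ℕ} (hb : b < p ^ a) : typ p (cyc p a b) = typ p b := by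
  rw [typ_eq a (cyc_lt ha hb), typ_eq a hb]
  congr 1
  conv_lhs => rw [← map_succ_mod ha, Multiset.map_map]
  refine Multiset.map_congr rfl fun i hi => ?_
  rw [Multiset.mem_range] at hi
  exact dg_cyc ha hb hi

theorem tyl_cyc (ha : 1 ≤ a) {b : ℕ} (hb : b < p ^ a) : tyl p (cyc p a b) = tyl p b := by
  unfold tyl
  rw [typ_cyc ha hb]

theorem length_tyl {b : ℕ} (hb : b < p ^ a) :
    (tyl p b).length = ((Finset.range a).filter fun i => b / p ^ i % p ≠ 0).card := by
  have h1 : (tyl p b).length = (typ p b).card := by rw [← coe_tyl, Multiset.coe_card]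
  rw [h1, typ_eq a hb, Multiset.filter_map, Multiset.card_map]
  rfl

end num

/-! ### characters -/

section chr

variable (k : Type*) [Field k] [DecidableEq k] (p : ℕ) [hp : Fact p.Prime] [CharP k p]

theorem chi_of_lt {n : ℕ} (hn : n < p) (z : ℂ) : chB k n z = chi n z := by
  have h := chB_mul k p 0 hn z
  rwa [mul_zero, zero_add, chB_zero, mul_one] at h

theorem chB_top (n : ℕ) : ∀ {c : ℕ}, c < p ^ n → ∀ (d : ℕ) (z : ℂ),
    chB k (c + p ^ n * d) z = chB k c z * chB k d (z ^ p ^ n) := by
  induction n with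
  | zero =>
    intro c hc d z
    rw [pow_zero, Nat.lt_one_iff] at hc
    rw [hc, chB_zero, pow_zero, one_mul, zero_add, one_mul, pow_one]
  | succ n ih =>
    intro c hc d z
    have h1 : c / p < p ^ n := by
      rw [Nat.div_lt_iff_lt_mul hp.out.pos, ← pow_succ]
      exact hc
    have h2 : c % p < p := Nat.mod_lt _ hp.out.pos
    have h3 : c + p ^ (n + 1) * d = p * (c / p + p ^ n * d) + c % p := by
      have := Nat.div_add_mod c p
      rw [pow_succ']
      calc c + p * p ^ n * d = p * (c / p) + c % p + p * p ^ n * d := by rw [this]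
        _ = _ := by ring
    have h4 : chB k c z = chi (c % p) z * chB k (c / p) (z ^ p) := by
      have := chB_mul k p (c / p) h2 z
      rwa [Nat.div_add_mod] at this
    rw [h3, chB_mul k p _ h2, ih h1, h4, ← pow_mul, ← pow_succ', mul_assoc]

theorem chB_cyc {a : ℕ} (ha : 1 ≤ a) {b : ℕ} (hb : b < p ^ a) {z : ℂ} (hz : Zs (p ^ a) z) :
    chB k (cyc p a b) z = chB k b (z ^ p) := by
  have h1 := top_lt ha hb
  have h2 : b % p ^ (a - 1) < p ^ (a - 1) := Nat.mod_lt _ (pow_pos hp.out.pos _)
  have hq : 2 ≤ p ^ a := hp.out.two_le.trans (Nat.le_self_pow (by omega) p)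
  have h3 := chB_top k p (a - 1) h2 (b / p ^ (a - 1)) (z ^ p)
  rw [Nat.mod_add_div] at h3
  rw [h3, cyc, chB_mul k p _ h1, chi_of_lt k p h1, ← pow_mul, ← pow_succ', Nat.sub_add_cancel ha, chi_frob hq hz,
    mul_comm]

theorem iter_lt {a : ℕ} (ha : 1 ≤ a) {b : ℕ} (hb : b < p ^ a) (j : ℕ) : (cyc p a)^[j] b < p ^ a := by
  induction j with
  | zero => exact hb
  | succ j ih =>
    rw [Function.iterate_succ_apply']
    exact cyc_lt ha ih

theorem chB_iter {a : ℕ} (ha : 1 ≤ a) {b : ℕ} (hb : b < p ^ a) (j : ℕ) : ∀ {z : ℂ}, Zs (p ^ a) z →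
    chB k ((cyc p a)^[j] b) z = chB k b (z ^ p ^ j) := by
  induction j with
  | zero =>
    intro z _
    rw [Function.iterate_zero_apply, pow_zero, pow_one]
  | succ j ih =>
    intro z hz
    rw [Function.iterate_succ_apply', chB_cyc k p ha (iter_lt p ha hb j) hz, ih (hz.pow p), ← pow_mul, ← pow_succ']

/-- **invariance of the multiset from the invariance of the character** -/
theorem map_iter_eq {a : ℕ} (ha : 1 ≤ a) {s : Multiset ℕ} (hs : ∀ b ∈ s, b < p ^ a) (j : ℕ)
    (h : ∀ z, Zs (p ^ a) z → cs k s (z ^ p ^ j) = cs k s z) : s.map (cyc p a)^[j] = s := by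
  have hq : 2 ≤ p ^ a := hp.out.two_le.trans (Nat.le_self_pow (by omega) p)
  refine cs_inj k p hq ?_ hs fun z hz => ?_
  · intro b hb
    obtain ⟨c, hc, rfl⟩ := Multiset.mem_map.1 hb
    exact iter_lt p ha (hs c hc) j
  · rw [← h z hz]
    unfold cs
    rw [Multiset.map_map]
    congr 1
    exact Multiset.map_congr rfl fun b hb => chB_iter k p ha (hs b hb) j hz

end chr

/-! ### double counting -/

section count

variable {p : ℕ} [hp : Fact p.Prime] {a : ℕ}

/-- the number of labels satisfying `P` with a nonzero digit in position `i` -/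
def cn' (p : ℕ) (P : ℕ → Prop) [DecidablePred P] (s : Multiset ℕ) (i : ℕ) : ℕ :=
  s.countP fun b => P b ∧ b / p ^ i % p ≠ 0

theorem cn_map (ha : 1 ≤ a) (P : ℕ → Prop) [DecidablePred P] (hP : ∀ b < p ^ a, P (cyc p a b) ↔ P b) {s : Multiset ℕ}
    (hs : ∀ b ∈ s, b < p ^ a) {i : ℕ} (hi : i < a) : cn' p P (s.map (cyc p a)) ((i + 1) % a) = cn' p P s i := by
  unfold cn'
  rw [Multiset.countP_map, Multiset.countP_eq_card_filter]
  congr 1
  refine Multiset.filter_congr fun b hb => ?_
  rw [hP b (hs b hb), dg_cyc ha (hs b hb) hi]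

theorem cn_iter (ha : 1 ≤ a) (P : ℕ → Prop) [DecidablePred P] (hP : ∀ b < p ^ a, P (cyc p a b) ↔ P b) (j : ℕ) :
    ∀ {s : Multiset ℕ}, (∀ b ∈ s, b < p ^ a) → ∀ {i : ℕ}, i < a →
      cn' p P (s.map (cyc p a)^[j]) ((i + j) % a) = cn' p P s i := by
  induction j with
  | zero =>
    intro s _ i hi
    rw [Function.iterate_zero, Multiset.map_id, add_zero, Nat.mod_eq_of_lt hi]
  | succ j ih =>
    intro s hs i hi
    have h1 : s.map (cyc p a)^[j + 1] = (s.map (cyc p a)^[j]).map (cyc p a) := by
      rw [Multiset.map_map, Function.iterate_succ']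
    have h2 : (i + (j + 1)) % a = ((i + j) % a + 1) % a := by rw [Nat.mod_add_mod, add_assoc]
    rw [h1, h2, cn_map ha P hP (fun b hb => by
      obtain ⟨c, hc, rfl⟩ := Multiset.mem_map.1 hb
      exact iter_lt p ha (hs c hc) j) (Nat.mod_lt _ (by omega)), ih hs hi]

theorem sum_periodic {f : ℕ → ℕ} {j : ℕ} (n : ℕ) (h : ∀ i, i + j < j * n → f (i + j) = f i) :
    n ∣ ∑ i ∈ Finset.range (j * n), f i := by
  have h1 : ∀ m ≤ n, ∑ i ∈ Finset.range (j * m), f i = m * ∑ i ∈ Finset.range j, f i := by
    intro m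
    induction m with
    | zero => intro _; simp
    | succ m ih =>
      intro hm
      have h2 : ∀ m' ≤ m, ∀ i < j, f (j * m' + i) = f i := by
        intro m'
        induction m' with
        | zero => intro _ i _; rw [mul_zero, zero_add]
        | succ m' ih' =>
          intro hm' i hi
          have h3 : j * (m' + 1) + i = j * m' + i + j := by ring
          rw [h3, h, ih' (by omega) i hi]
          calc j * m' + i + j < j * m' + j + j := by omega
            _ = j * (m' + 2) := by ring
            _ ≤ j * n := Nat.mul_le_mul_left _ (by omega)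
      rw [mul_add, mul_one, Finset.sum_range_add, ih (by omega), add_mul, one_mul]
      congr 1
      exact Finset.sum_congr rfl fun i hi => h2 m le_rfl i (Finset.mem_range.1 hi)
  rw [h1 n le_rfl]
  exact dvd_mul_right _ _

theorem sum_countP {ι : Type*} (S : Finset ι) (s : Multiset ℕ) (Q : ℕ → ι → Prop) [∀ b, DecidablePred (Q b)] :
    ∑ i ∈ S, s.countP (fun b => Q b i) = (s.map fun b => (S.filter fun i => Q b i).card).sum := by
  induction s using Multiset.induction_on with
  | empty => simp
  | cons b s ih =>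
    simp only [Multiset.countP_cons, Multiset.map_cons, Multiset.sum_cons]
    rw [Finset.sum_add_distrib, ih, Finset.card_filter, add_comm]

/-- **double counting** -/
theorem dvd_of_inv' {j n : ℕ} (ha : 1 ≤ a) (hj : a = j * n) {s : Multiset ℕ} (hs : ∀ b ∈ s, b < p ^ a)
    (h : s.map (cyc p a)^[j] = s) (P : ℕ → Prop) [DecidablePred P] (hP : ∀ b < p ^ a, P (cyc p a b) ↔ P b) :
    n ∣ ∑ i ∈ Finset.range a, cn' p P s i := by
  rw [hj]
  refine sum_periodic n fun i hi => ?_
  have h1 := cn_iter ha P hP j hs (i := i) (by rw [hj]; omega)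
  rwa [h, Nat.mod_eq_of_lt (by rw [hj]; exact hi)] at h1

/-- **the number of labels of a given type** -/
theorem dvd_of_inv {j n : ℕ} (ha : 1 ≤ a) (hj : a = j * n) {s : Multiset ℕ} (hs : ∀ b ∈ s, b < p ^ a)
    (h : s.map (cyc p a)^[j] = s) (t : List ℕ) : n ∣ t.length * (s.map (tyl p)).count t := by
  have h1 := dvd_of_inv' ha hj hs h (fun b => tyl p b = t) (fun b hb => by rw [tyl_cyc ha hb])
  convert h1 using 1
  unfold cn'
  rw [sum_countP (Finset.range a) s fun b i => tyl p b = t ∧ b / p ^ i % p ≠ 0]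
  have h2 : (s.map fun b => ((Finset.range a).filter fun i => tyl p b = t ∧ b / p ^ i % p ≠ 0).card) =
      s.map fun b => if tyl p b = t then t.length else 0 := by
    refine Multiset.map_congr rfl fun b hb => ?_
    split_ifs with h3
    · rw [← h3, length_tyl (hs b hb)]
      congr 1
      exact Finset.filter_congr fun i _ => by simp [h3]
    · rw [Finset.card_eq_zero, Finset.filter_eq_empty_iff]
      intro i _ h4
      exact h3 h4.1
  rw [h2]
  clear h2 h1 h hs
  induction s using Multiset.induction_on with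
  | empty => simp
  | cons b s ih =>
    rw [Multiset.map_cons, Multiset.map_cons, Multiset.sum_cons, ← ih, Multiset.count_cons]
    split_ifs with h3 h4 h4
    · ring
    · exact absurd h3.symm h4
    · exact absurd h4.symm h3
    · ring

end count

end Cfsg.Agent.R2.H8.NoFix.Shift
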