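import Mathlib
import Cfsg.Agent.R2.H8.NoFix.Shift
import Cfsg.Agent.R2.H28.SL2.Dual
import Cfsg.Agent.ClassicalGeometry.AutPSL.Auto

/-!
# S5749, S5750, box NOFIX: twisting by field automorphisms and composition factors (helper8)

* `isSS_cj`, `isSS_fld` : `IsSS` under conjugation and field automorphisms;
* `cs_twist`, `cf_twist` : if the eigenspaces satisfy `dim E(τ g, ν ^ p ^ n) = dim E(g, ν)`, `τ` the automorphism induced by
  `C ∈ GL₂(K)` and `σ = (x ↦ x ^ p ^ j)`, then the shifts of `cf ρ` by `j` and by `n` agree; `cf_shift` : the linear case;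
* `le_count_zero` : the fixed vectors.
-/

set_option autoImplicit false
set_option linter.unusedSectionVars false

namespace Cfsg.Agent.R2.H8.NoFix.Rep

open Matrix Cfsg.Agent.H943.SL2Rel Cfsg.Agent.H943.SL2Mod Cfsg.Agent.H943.RepAdd Cfsg.Agent.R2.H28.SL2
open Cfsg.Agent.H179.SLC (IsSS)
open Cfsg.Agent.ClassicalGeometry.AutPSL.Auto (cj fld coe_cj coe_fld_apply)
open Cfsg.Agent.R2.H8.NoFix.Shift

universe u v w

section ss

variable {k : Type u} [Field k] {K : Type w} [Field K] (ι : K →+* k)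

theorem isSS_cj {g : SpecialLinearGroup (Fin 2) K} {ζ : k} (h : IsSS ι g ζ) (C : GL (Fin 2) K) : IsSS ι (cj C g) ζ := by
  obtain ⟨v₁, v₂, h1, h2, h3⟩ := h
  have hm : (cj C g).1.map ι * C.1.map ι = C.1.map ι * g.1.map ι := by
    have e : (cj C g).1 = C.1 * g.1 * (C⁻¹ : GL (Fin 2) K).1 := rfl
    rw [← Matrix.map_mul, ← Matrix.map_mul, e, Matrix.mul_assoc, ← Units.val_mul, inv_mul_cancel, Units.val_one,
      Matrix.mul_one]
  have key : ∀ (v : Fin 2 → k) (c : k), (g.1.map ι).mulVec v = c • v →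
      ((cj C g).1.map ι).mulVec ((C.1.map ι).mulVec v) = c • (C.1.map ι).mulVec v := by
    intro v c hv
    rw [Matrix.mulVec_mulVec, hm, ← Matrix.mulVec_mulVec, hv, Matrix.mulVec_smul]
  refine ⟨(C.1.map ι).mulVec v₁, (C.1.map ι).mulVec v₂, key _ _ h1, key _ _ h2, ?_⟩
  have hdet : C.1 0 0 * C.1 1 1 - C.1 0 1 * C.1 1 0 ≠ 0 := by
    rw [← Matrix.det_fin_two]
    exact C.det_ne_zero
  have e : ((C.1.map ι).mulVec v₁) 0 * ((C.1.map ι).mulVec v₂) 1 - ((C.1.map ι).mulVec v₁) 1 * ((C.1.map ι).mulVec v₂) 0 =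
      ι (C.1 0 0 * C.1 1 1 - C.1 0 1 * C.1 1 0) * (v₁ 0 * v₂ 1 - v₁ 1 * v₂ 0) := by
    simp only [Matrix.mulVec, dotProduct, Fin.sum_univ_two, Matrix.map_apply, map_sub, map_mul]
    ring
  rw [e]
  exact mul_ne_zero (fun h0 => hdet (ι.injective (by rw [h0, map_zero]))) h3

theorem isSS_fld (p : ℕ) [Fact p.Prime] [CharP k p] {g : SpecialLinearGroup (Fin 2) K} {ζ : k} (h : IsSS ι g ζ)
    {σ : K ≃+* K} {j : ℕ} (hσ : ∀ x, σ x = x ^ p ^ j) : IsSS ι (fld σ g) (ζ ^ p ^ j) := by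
  obtain ⟨v₁, v₂, h1, h2, h3⟩ := h
  have hfr : ∀ x : k, iterateFrobenius k p j x = x ^ p ^ j := fun x => rfl
  have hm : (fld σ g).1.map ι = (g.1.map ι).map (iterateFrobenius k p j) := by
    ext a b
    rw [Matrix.map_apply, Matrix.map_apply, Matrix.map_apply, hfr, ← map_pow, ← hσ]
    rfl
  have key : ∀ (v : Fin 2 → k) (c : k), (g.1.map ι).mulVec v = c • v →
      ((fld σ g).1.map ι).mulVec (fun i => v i ^ p ^ j) = (c ^ p ^ j) • fun i => v i ^ p ^ j := by
    intro v c hv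
    funext i
    have e1 := RingHom.map_mulVec (iterateFrobenius k p j) (g.1.map ι) v i
    rw [hv] at e1
    have e2 : (fun i => v i ^ p ^ j) = (iterateFrobenius k p j) ∘ v := rfl
    rw [hm, e2, ← e1, Pi.smul_apply, Pi.smul_apply, smul_eq_mul, smul_eq_mul, map_mul, hfr]
    rfl
  refine ⟨fun i => v₁ i ^ p ^ j, fun i => v₂ i ^ p ^ j, key _ _ h1, ?_, ?_⟩
  · rw [← inv_pow]
    exact key _ _ h2
  · have e : v₁ 0 ^ p ^ j * v₂ 1 ^ p ^ j - v₁ 1 ^ p ^ j * v₂ 0 ^ p ^ j = (v₁ 0 * v₂ 1 - v₁ 1 * v₂ 0) ^ p ^ j := by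
      rw [← hfr, ← hfr, ← hfr, ← hfr, ← hfr, map_sub, map_mul, map_mul]
    rw [e]
    exact pow_ne_zero _ h3

end ss

/-! ### reindexing -/

theorem pow_red {K : Type*} [Field K] {x : K} {N : ℕ} (hx : x ^ N = 1) (m i : ℕ) : (x ^ m) ^ i = x ^ (m * i % N) := by
  rw [← pow_mul]
  conv_lhs => rw [← Nat.div_add_mod (m * i) N, pow_add, pow_mul, hx, one_pow, one_mul]

theorem sum_pow {k : Type*} [Field k] {ζ : k} {N : ℕ} (hζ : IsPrimitiveRoot ζ N) (hN : 0 < N) {z : ℂ} (hz : z ^ N = 1)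
    {m : ℕ} (hm : Nat.Coprime m N) (f : k → ℂ) :
    ∑ i ∈ Finset.range N, f ((ζ ^ m) ^ i) * (z ^ m) ^ i = ∑ i ∈ Finset.range N, f (ζ ^ i) * z ^ i := by
  refine Finset.sum_nbij (fun i => m * i % N) ?_ ?_ ?_ ?_
  · intro i _
    exact Finset.mem_range.2 (Nat.mod_lt _ hN)
  · intro i hi j hj hij
    rw [Finset.mem_coe, Finset.mem_range] at hi hj
    have h2 : m * i ≡ m * j [MOD N] := hij
    have h3 : i ≡ j [MOD N] := Nat.ModEq.cancel_left_of_coprime (by rw [Nat.gcd_comm]; exact hm) h2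
    exact Nat.ModEq.eq_of_lt_of_lt h3 hi hj
  · apply Finset.surjOn_of_injOn_of_card_le
    · intro i _
      exact Finset.mem_coe.2 (Finset.mem_range.2 (Nat.mod_lt _ hN))
    · intro i hi j hj hij
      rw [Finset.mem_coe, Finset.mem_range] at hi hj
      have h2 : m * i ≡ m * j [MOD N] := hij
      have h3 : i ≡ j [MOD N] := Nat.ModEq.cancel_left_of_coprime (by rw [Nat.gcd_comm]; exact hm) h2
      exact Nat.ModEq.eq_of_lt_of_lt h3 hi hj
    · exact le_rfl
  · intro i _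
    rw [pow_red hζ.pow_eq_one, pow_red hz]

variable {k : Type u} [Field k] [DecidableEq k] {K : Type w} [Field K] [Fintype K] [DecidableEq K] (ι : K →+* k)
variable (p : ℕ) [Fact p.Prime] [CharP k p] [CharP K p]

theorem coprime_of_ne {N : ℕ} (hN : (N : k) ≠ 0) (j : ℕ) : Nat.Coprime (p ^ j) N := by
  apply Nat.Coprime.pow_left
  rw [(Fact.out : p.Prime).coprime_iff_not_dvd]
  intro h
  exact hN ((CharP.cast_eq_zero_iff k p N).2 h)

theorem tor_twist {N : ℕ} {g : SpecialLinearGroup (Fin 2) K} {ζ : k} (T : Tor ι N g ζ) {C : GL (Fin 2) K} {σ : K ≃+* K}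
    {j : ℕ} (hσ : ∀ x, σ x = x ^ p ^ j) : Tor ι N (cj C (fld σ g)) (ζ ^ p ^ j) :=
  ⟨isSS_cj ι (isSS_fld ι p T.ss hσ) C, T.prim.pow_of_coprime _ (coprime_of_ne p T.nz j), T.nz⟩

variable [IsAlgClosed k] {a : ℕ} (hF : Fintype.card K = p ^ a)

include hF in
/-- **the character of a twist** -/
theorem cs_twist {W : Type v} [AddCommGroup W] [Module k W] [FiniteDimensional k W]
    (ρ : Representation k (SpecialLinearGroup (Fin 2) K) W) {C : GL (Fin 2) K} {σ : K ≃+* K} {j n : ℕ}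
    (hσ : ∀ x, σ x = x ^ p ^ j)
    (h : ∀ g (ν : k), Module.finrank k (eig ρ (cj C (fld σ g)) (ν ^ p ^ n)) = Module.finrank k (eig ρ g ν))
    {z : ℂ} (hz : Zs (p ^ a) z) :
    cs k (cf (Sy.{u, v, w} ι p) ρ) (z ^ p ^ j) = cs k (cf (Sy.{u, v, w} ι p) ρ) (z ^ p ^ n) := by
  obtain ⟨N, g, ζ, T, hz'⟩ := exists_tor ι p hF hz
  have hzp : ∀ m : ℕ, (z ^ m) ^ N = 1 := fun m => by rw [← pow_mul, mul_comm, pow_mul, hz', one_pow]
  rw [← bc_cf ι p hF ρ (tor_twist ι p T (C := C) hσ) (hzp _), ← bc_cf ι p hF ρ T (hzp _)]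
  unfold bc
  rw [sum_pow T.prim T.pos hz' (coprime_of_ne p T.nz j)
    (fun ν => (Module.finrank k (eig ρ (cj C (fld σ g)) ν) : ℂ)),
    ← sum_pow T.prim T.pos hz' (coprime_of_ne p T.nz n)
    (fun ν => (Module.finrank k (eig ρ (cj C (fld σ g)) ν) : ℂ))]
  refine Finset.sum_congr rfl fun i _ => ?_
  congr 2
  rw [← h g (ζ ^ i), ← pow_mul, ← pow_mul, mul_comm]

include hF in
/-- **the composition factors of a twist** -/
theorem cf_twist {W : Type v} [AddCommGroup W] [Module k W] [FiniteDimensional k W]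
    (ρ : Representation k (SpecialLinearGroup (Fin 2) K) W) {C : GL (Fin 2) K} {σ : K ≃+* K} {j n : ℕ}
    (hσ : ∀ x, σ x = x ^ p ^ j)
    (h : ∀ g (ν : k), Module.finrank k (eig ρ (cj C (fld σ g)) (ν ^ p ^ n)) = Module.finrank k (eig ρ g ν)) :
    (cf (Sy.{u, v, w} ι p) ρ).map (cyc p a)^[j] = (cf (Sy.{u, v, w} ι p) ρ).map (cyc p a)^[n] := by
  have ha := ha_pos p hF
  have hs := cf_lt.{u, v, w} ι p hF ρ
  refine cs_inj k p (two_le_q p hF) ?_ ?_ fun z hz => ?_
  · intro b hb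
    obtain ⟨c, hc, rfl⟩ := Multiset.mem_map.1 hb
    exact iter_lt p ha (hs c hc) j
  · intro b hb
    obtain ⟨c, hc, rfl⟩ := Multiset.mem_map.1 hb
    exact iter_lt p ha (hs c hc) n
  · have e : ∀ m : ℕ, cs k ((cf (Sy.{u, v, w} ι p) ρ).map (cyc p a)^[m]) z =
        cs k (cf (Sy.{u, v, w} ι p) ρ) (z ^ p ^ m) := by
      intro m
      unfold cs
      rw [Multiset.map_map]
      congr 1
      exact Multiset.map_congr rfl fun b hb => chB_iter k p ha (hs b hb) m hz
    rw [e, e]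
    exact cs_twist ι p hF ρ hσ h hz

include hF in
/-- **the linear case** -/
theorem cf_shift {W : Type v} [AddCommGroup W] [Module k W] [FiniteDimensional k W]
    (ρ : Representation k (SpecialLinearGroup (Fin 2) K) W) {C : GL (Fin 2) K} {σ : K ≃+* K} {j : ℕ}
    (hσ : ∀ x, σ x = x ^ p ^ j) (T : W ≃ₗ[k] W) (hT : ∀ g v, T (ρ g v) = ρ (cj C (fld σ g)) (T v)) :
    (cf (Sy.{u, v, w} ι p) ρ).map (cyc p a)^[j] = cf (Sy.{u, v, w} ι p) ρ := by
  have h1 := cf_twist.{u, v, w} ι p hF ρ (C := C) (n := 0) hσ fun g ν => by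
    rw [pow_zero, pow_one]
    have e : eig ρ (cj C (fld σ g)) ν = (eig ρ g ν).map (T : W →ₗ[k] W) := by
      ext v
      rw [Submodule.mem_map, mem_eig]
      constructor
      · intro hv
        refine ⟨T.symm v, (mem_eig ρ).2 (T.injective ?_), T.apply_symm_apply v⟩
        rw [hT, T.apply_symm_apply, hv, map_smul, T.apply_symm_apply]
      · rintro ⟨x, hx, rfl⟩
        rw [mem_eig] at hx
        show ρ (cj C (fld σ g)) (T x) = ν • T x
        rw [← hT, hx, map_smul]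
    rw [e]
    exact (T.submoduleMap (eig ρ g ν)).finrank_eq.symm
  rwa [Function.iterate_zero, Multiset.map_id] at h1

include hF in
/-- **a trivial representation** -/
theorem cf_triv {W : Type v} [AddCommGroup W] [Module k W] [FiniteDimensional k W]
    (ρ : Representation k (SpecialLinearGroup (Fin 2) K) W) (h : ∀ g v, ρ g v = v) :
    cf (Sy.{u, v, w} ι p) ρ = Multiset.replicate (Module.finrank k W) 0 := by
  refine cf_of_cs ι p hF (fun b hb => ?_) fun z hz => ?_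
  · rw [Multiset.eq_of_mem_replicate hb]
    exact pow_pos (Fact.out : p.Prime).pos _
  · obtain ⟨N, g, ζ, T, hz'⟩ := exists_tor ι p hF hz
    rw [← bc_cf ι p hF ρ T hz']
    unfold bc
    rw [Finset.sum_eq_single 0]
    · have e : eig ρ g (ζ ^ 0) = ⊤ := by
        rw [eq_top_iff]
        intro v _
        rw [mem_eig, pow_zero, one_smul, h]
      rw [e, finrank_top, pow_zero, mul_one]
      unfold cs
      rw [Multiset.map_replicate, Multiset.sum_replicate, chB_zero, nsmul_eq_mul, mul_one]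
    · intro i hi hi0
      have e : eig ρ g (ζ ^ i) = ⊥ := by
        rw [eq_bot_iff]
        intro v hv
        rw [mem_eig, h] at hv
        have h1 : (1 - ζ ^ i) • v = 0 := by rw [sub_smul, one_smul, ← hv, sub_self]
        rw [smul_eq_zero] at h1
        rcases h1 with h1 | h1
        · exfalso
          have h2 : ζ ^ i = 1 := (sub_eq_zero.1 h1).symm
          rw [T.prim.pow_eq_one_iff_dvd] at h2
          have h3 := Nat.le_of_dvd (Nat.pos_of_ne_zero hi0) h2
          rw [Finset.mem_range] at hi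
          omega
        · exact h1
      rw [e, finrank_bot, Nat.cast_zero, zero_mul]
    · intro h0
      exact absurd (Finset.mem_range.2 T.pos) h0

include hF in
/-- **the fixed vectors** -/
theorem le_count_zero {W : Type v} [AddCommGroup W] [Module k W] [FiniteDimensional k W]
    (ρ : Representation k (SpecialLinearGroup (Fin 2) K) W) {X : Submodule k W} (hX : ∀ g, ∀ x ∈ X, ρ g x = x) :
    Module.finrank k X ≤ (cf (Sy.{u, v, w} ι p) ρ).count 0 := by
  have hX' : ∀ g, ∀ x ∈ X, ρ g x ∈ X := fun g x hx => by rw [hX g x hx]; exact hx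
  have h1 := cf_sub_le (Sy.{u, v, w} ι p) ρ X hX'
  rw [cf_triv.{u, v, w} ι p hF (subRep ρ X hX') (fun g x => Subtype.ext (hX g x x.2))] at h1
  have h2 := Multiset.count_le_of_le 0 h1
  rwa [Multiset.count_replicate_self] at h2

end Cfsg.Agent.R2.H8.NoFix.Rep
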