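import Mathlib
import Cfsg.Agent.R2.H9.E6.Cfg
import Cfsg.Agent.R2.H8.NoFix.Aut
import Cfsg.Agent.H65.E6Emb

/-!
# S5749, S5750, box NOFIX: the structure of the maximal subgroup (helper8)

* `Ac M ψ ι` : the action of `M` on `A = PSL₂(K)`;
* `exists_j` : the group of field automorphisms induced by `M` is generated by `x ↦ x ^ p ^ j`, `a = j * n`;
* `exists_pow` : `m ^ N ∈ Z ψ(A)`;
* `comm_fix` : `M` acts commutatively on the vectors fixed by `ψ(A)`, over any extension.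
-/

set_option autoImplicit false

namespace Cfsg.Agent.R2.H8.NoFix.MS

open Cfsg Cfsg.Lie Module Matrix
open Cfsg.Agent.ChevalleyStructure
open Cfsg.Agent.ChevalleyStructure.E6Min.Basic Cfsg.Agent.ChevalleyStructure.E6Min.Adjoint
open Cfsg.Agent.H163.E6
open Cfsg.Agent.H65.E6Emb (emb V_emb V'_emb ad_emb_eq_one_iff emb_frob emb_emb)
open Cfsg.Agent.R2.H9.E6 Cfsg.Agent.R2.H8.NoFix.Aut
open Cfsg.Agent.H199.PslAut

universe u v w

variable {F : Type u} [Field F] {K : Type v} [Field K]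

/-- the action of `M` on `PSL₂(K)` -/
structure Ac (M : Subgroup ↥(Zgrp F)) (ψ : ProjectiveSpecialLinearGroup (Fin 2) K →* ↥(Zgrp F))
    (ι : ↥M →* MulAut (ProjectiveSpecialLinearGroup (Fin 2) K)) : Prop where
  conj : ∀ (m : ↥M) (x), ψ (ι m x) = (m : ↥(Zgrp F)) * ψ x * (m : ↥(Zgrp F))⁻¹
  ker : ∀ m : ↥M, ι m = 1 ↔ ad F m = 1
  mem : ∀ x, ψ x ∈ M
  inn : ∀ x (hx : ψ x ∈ M), ι ⟨ψ x, hx⟩ = MulAut.conj x

theorem exists_ac {Γ M : Subgroup ↥(Zgrp F)} {ψ : ProjectiveSpecialLinearGroup (Fin 2) K →* ↥(Zgrp F)}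
    (h : Setup Γ M ψ) : ∃ ι, Ac M ψ ι := by
  obtain ⟨ι, h1, h2, h3⟩ := h.act
  exact ⟨ι, h1, h2, h.mem_M, h3⟩

variable {M : Subgroup ↥(Zgrp F)} {ψ : ProjectiveSpecialLinearGroup (Fin 2) K →* ↥(Zgrp F)}
  {ι : ↥M →* MulAut (ProjectiveSpecialLinearGroup (Fin 2) K)}

theorem Ac.exists_z (h : Ac M ψ ι) {m : ↥M} {x : ProjectiveSpecialLinearGroup (Fin 2) K} (hm : ι m = MulAut.conj x) :
    ∃ z, ad F z = 1 ∧ (m : ↥(Zgrp F)) = z * ψ x := by
  have h1 : ι (m * (⟨ψ x, h.mem x⟩ : ↥M)⁻¹) = 1 := by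
    rw [map_mul, map_inv, h.inn, hm, mul_inv_cancel]
  rw [h.ker] at h1
  exact ⟨(m : ↥(Zgrp F)) * (ψ x)⁻¹, h1, by rw [inv_mul_cancel_right]⟩

section field

variable [Fintype K]

/-- the group of field automorphisms induced by `M` -/
theorem exists_j {p a : ℕ} [Fact p.Prime] [CharP K p] (ha : 1 ≤ a) (hK : Fintype.card K = p ^ a)
    (ι : ↥M →* MulAut (ProjectiveSpecialLinearGroup (Fin 2) K)) :
    ∃ j n : ℕ, 1 ≤ j ∧ a = j * n ∧ (∃ m, ∀ x, fa K (ι m) x = x ^ p ^ j) ∧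
      ∀ m, ∃ q, ∀ x, fa K (ι m) x = x ^ p ^ (j * q) := by
  classical
  have hfr : ∀ x : K, x ^ p ^ a = x := fun x => by rw [← hK, FiniteField.pow_card]
  -- the set of exponents
  let I : Set ℕ := {i | ∃ m, ∀ x, fa K (ι m) x = x ^ p ^ i}
  have hadd : ∀ i ∈ I, ∀ i' ∈ I, i + i' ∈ I := by
    rintro i ⟨m, hm⟩ i' ⟨m', hm'⟩
    refine ⟨m * m', fun x => ?_⟩
    rw [map_mul, map_mul, RingAut.mul_apply, hm', hm, ← pow_mul, ← pow_add, add_comm]
  have hmul : ∀ i ∈ I, ∀ q, i * q ∈ I := by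
    intro i hi q
    induction q with
    | zero =>
      refine ⟨1, fun x => ?_⟩
      rw [map_one, map_one, mul_zero, pow_zero, pow_one]
      rfl
    | succ q ih =>
      rw [mul_add, mul_one]
      exact hadd _ ih _ hi
  have hsub : ∀ i i', i ∈ I → i + i' ∈ I → i' ∈ I := by
    rintro i i' ⟨m, hm⟩ ⟨m', hm'⟩
    refine ⟨m' * m⁻¹, fun x => ?_⟩
    rw [map_mul, map_inv, map_mul, map_inv, RingAut.mul_apply]
    obtain ⟨y, rfl⟩ := (fa K (ι m)).surjective x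
    have h1 : (fa K (ι m))⁻¹ (fa K (ι m) y) = y := by
      rw [← RingAut.mul_apply, inv_mul_cancel]
      rfl
    rw [h1, hm', hm, ← pow_mul, ← pow_add]
  have ha' : a ∈ I := ⟨1, fun x => by rw [map_one, map_one, hfr]; rfl⟩
  have hex : ∃ j, 1 ≤ j ∧ j ∈ I := ⟨a, ha, ha'⟩
  obtain ⟨hj1, hjI⟩ := Nat.find_spec hex
  set j := Nat.find hex with hjdef
  have hdvd : ∀ i ∈ I, j ∣ i := by
    intro i hi
    have h1 : i % j ∈ I := hsub (j * (i / j)) _ (hmul j hjI _) (by rw [Nat.div_add_mod]; exact hi)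
    by_contra h2
    have h3 : 1 ≤ i % j := by
      rw [Nat.one_le_iff_ne_zero]
      exact fun h4 => h2 (Nat.dvd_of_mod_eq_zero h4)
    have h4 := Nat.find_min' hex ⟨h3, h1⟩
    have h5 := Nat.mod_lt i (show 0 < j by omega)
    omega
  obtain ⟨n, hn⟩ := hdvd a ha'
  refine ⟨j, n, hj1, hn, hjI, fun m => ?_⟩
  obtain ⟨i, hi⟩ := exists_pow p (fa K (ι m))
  obtain ⟨q, rfl⟩ := hdvd i ⟨m, hi⟩
  exact ⟨q, hi⟩

/-- `m ^ N ∈ Z ψ(A)` -/
theorem Ac.exists_pow (h : Ac M ψ ι) {p a j n : ℕ} (hK : Fintype.card K = p ^ a) (hn : a = j * n) {m : ↥M} {q : ℕ}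
    (hm : ∀ x, fa K (ι m) x = x ^ p ^ (j * q)) {N : ℕ} (hN : n ∣ N) (hN' : Even N ∨ CharP K 2) :
    ∃ z x, ad F z = 1 ∧ (m : ↥(Zgrp F)) ^ N = z * ψ x := by
  have h1 : fa K (ι m) ^ N = 1 := by
    obtain ⟨t, rfl⟩ := hN
    have h2 : ∀ (s : ℕ) x, (fa K (ι m) ^ s) x = x ^ p ^ (j * q * s) := by
      intro s
      induction s with
      | zero =>
        intro x
        rw [pow_zero, mul_zero, pow_zero, pow_one]
        rfl
      | succ s ih =>
        intro x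
        rw [pow_succ, RingAut.mul_apply, hm, ih, ← pow_mul, ← pow_add]
        congr 2
        ring
    ext x
    rw [h2, RingAut.one_apply]
    have h3 : j * q * (n * t) = a * (q * t) := by rw [hn]; ring
    rw [h3]
    have h4 : ∀ s : ℕ, x ^ p ^ (a * s) = x := by
      intro s
      induction s with
      | zero => rw [mul_zero, pow_zero, pow_one]
      | succ s ih => rw [mul_add, mul_one, pow_add, pow_mul, ih, ← hK, FiniteField.pow_card]
    exact h4 _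
  obtain ⟨x, hx⟩ := pow_inner h1 hN'
  rw [← map_pow] at hx
  obtain ⟨z, hz, hmz⟩ := h.exists_z hx
  exact ⟨z, x, hz, by rw [← hmz, Subgroup.coe_pow]⟩

/-- commutators -/
theorem Ac.exists_comm (h : Ac M ψ ι) (m m' : ↥M) :
    ∃ z x, ad F z = 1 ∧ (m : ↥(Zgrp F)) * m' = z * ψ x * (m' * m) := by
  obtain ⟨x, hx⟩ := comm_inner (ι m) (ι m')
  rw [← map_inv, ← map_inv, ← map_mul, ← map_mul, ← map_mul] at hx
  obtain ⟨z, hz, hmz⟩ := h.exists_z hx
  refine ⟨z, x, hz, ?_⟩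
  rw [← hmz]
  simp only [Subgroup.coe_mul, Subgroup.coe_inv]
  group

end field

/-! ### extensions of scalars -/

variable {k : Type w} [Field k] (f : F →+* k)

/-- the two modules and their extensions -/
def BC (ρ : Representation F ↥(Zgrp F) (I27 → F)) (R : Representation k ↥(Zgrp k) (I27 → k)) : Prop :=
  (ρ = V F ∧ R = V k) ∨ (ρ = V' F ∧ R = V' k)

variable {ρ : Representation F ↥(Zgrp F) (I27 → F)} {R : Representation k ↥(Zgrp k) (I27 → k)}

theorem BC.left (h : BC ρ R) : ρ = V F ∨ ρ = V' F := h.imp And.left And.left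

theorem BC.right (h : BC ρ R) : R = V k ∨ R = V' k := h.imp And.right And.right

theorem BC.of_left (h : ρ = V F ∨ ρ = V' F) : ∃ R : Representation k ↥(Zgrp k) (I27 → k), BC ρ R := by
  rcases h with h | h
  · exact ⟨V k, Or.inl ⟨h, rfl⟩⟩
  · exact ⟨V' k, Or.inr ⟨h, rfl⟩⟩

theorem BC.of_right (h : R = V k ∨ R = V' k) : ∃ ρ : Representation F ↥(Zgrp F) (I27 → F), BC ρ R := by
  rcases h with h | h
  · exact ⟨V F, Or.inl ⟨rfl, h⟩⟩
  · exact ⟨V' F, Or.inr ⟨rfl, h⟩⟩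

/-- the representation over the extension -/
noncomputable def T (f : F →+* k) (R : Representation k ↥(Zgrp k) (I27 → k)) : Representation k ↥(Zgrp F) (I27 → k) :=
  MonoidHom.comp R (emb f)

theorem T_apply (g : ↥(Zgrp F)) (x : I27 → k) : T f R g x = R (emb f g) x := rfl

variable {f} in
theorem T_mul (g h : ↥(Zgrp F)) (x : I27 → k) : T f R (g * h) x = T f R g (T f R h x) := by
  rw [map_mul]
  rfl

variable {f} in
theorem T_inv (g : ↥(Zgrp F)) (x : I27 → k) : T f R g⁻¹ (T f R g x) = x := by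
  rw [← T_mul, inv_mul_cancel, map_one]
  rfl

variable {f} in
theorem T_eq_zero {g : ↥(Zgrp F)} {x : I27 → k} (h : T f R g x = 0) : x = 0 := by
  rw [← T_inv (f := f) (R := R) g x, h, map_zero]

theorem BC.emb (h : BC ρ R) (g : ↥(Zgrp F)) (x : I27 → F) : T f R g (fun i => f (x i)) = fun i => f (ρ g x i) := by
  rcases h with ⟨rfl, rfl⟩ | ⟨rfl, rfl⟩
  · exact V_emb f g x
  · exact V'_emb f g x

/-- the Frobenius map of the coordinates -/
theorem rho_emb (h : R = V k ∨ R = V' k) (s : k →+* k) (g : ↥(Zgrp k)) (x : I27 → k) :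
    R (H65.E6Emb.emb s g) (fun i => s (x i)) = fun i => s (R g x i) := by
  rcases h with rfl | rfl
  · exact V_emb s g x
  · exact V'_emb s g x

theorem rho_frob [Fintype F] (h : R = V k ∨ R = V' k) (s : k →+* k) (hs : ∀ x, s x = x ^ Fintype.card F)
    (g : ↥(Zgrp F)) (x : I27 → k) : T f R g (fun i => s (x i)) = fun i => s (T f R g x i) := by
  rw [T_apply, T_apply, ← rho_emb h, emb_frob f s hs]

/-- the scalars of the centre -/
theorem BC.scal [Finite F] (h : BC ρ R) {z : ↥(Zgrp F)} (hz : ad F z = 1) :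
    ∃ c : F, c ^ 3 = 1 ∧ ∀ x, T f R z x = f c • x := by
  obtain ⟨c, -, hc, h1⟩ := Cnt.ker_scalar h.left hz
  refine ⟨c, hc, fun x => ?_⟩
  have h2 : (T f R z : (I27 → k) →ₗ[k] (I27 → k)) = f c • (LinearMap.id : (I27 → k) →ₗ[k] (I27 → k)) := by
    apply (Pi.basisFun k I27).ext
    intro i
    have h3 : (Pi.basisFun k I27) i = fun l => f ((Pi.single i (1 : F) : I27 → F) l) := by
      funext l
      rw [Pi.basisFun_apply]
      by_cases hl : l = i
      · subst hl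
        rw [Pi.single_eq_same, Pi.single_eq_same, map_one]
      · rw [Pi.single_eq_of_ne hl, Pi.single_eq_of_ne hl, map_zero]
    rw [h3, h.emb, h1, LinearMap.smul_apply, LinearMap.id_apply]
    funext l
    rw [Pi.smul_apply, Pi.smul_apply, smul_eq_mul, smul_eq_mul, map_mul]
  rw [h2, LinearMap.smul_apply, LinearMap.id_apply]

/-- the vectors fixed by `ψ(A)` -/
def Fx (ψ : ProjectiveSpecialLinearGroup (Fin 2) K →* ↥(Zgrp F)) (R : Representation k ↥(Zgrp k) (I27 → k)) :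
    Submodule k (I27 → k) where
  carrier := {x | ∀ g, T f R (ψ g) x = x}
  add_mem' := by
    intro x y hx hy g
    rw [map_add, hx, hy]
  zero_mem' := fun g => map_zero _
  smul_mem' := by
    intro c x hx g
    rw [map_smul, hx]

variable {f}

theorem mem_Fx {x : I27 → k} : x ∈ Fx f ψ R ↔ ∀ g, T f R (ψ g) x = x := Iff.rfl

theorem Ac.Fx_stable (h : Ac M ψ ι) (m : ↥M) {x : I27 → k} (hx : x ∈ Fx f ψ R) : T f R m x ∈ Fx f ψ R := by
  rw [mem_Fx] at hx ⊢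
  intro g
  have h1 : ψ g * m = m * ψ (ι m⁻¹ g) := by
    rw [h.conj, Subgroup.coe_inv, inv_inv]
    group
  rw [← T_mul, h1, T_mul, hx]

variable [Finite F] [Fintype K]

/-- elements without field part -/
theorem Ac.comm_zero (h : Ac M ψ ι) (hB : BC ρ R) {t : ↥M} (ht : fa K (ι t) = 1) (s : ↥M) {y : I27 → k}
    (hy : y ∈ Fx f ψ R) : T f R t (T f R s y) = T f R s (T f R t y) := by
  obtain ⟨z, g, hz, hzg⟩ := h.exists_comm t s
  obtain ⟨c, hc3, hc⟩ := hB.scal f hz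
  have h1 : ∀ y ∈ Fx f ψ R, T f R t (T f R s y) = f c • T f R s (T f R t y) := by
    intro y hy
    have h2 : T f R ((s * t : ↥M) : ↥(Zgrp F)) y ∈ Fx f ψ R := h.Fx_stable (s * t) hy
    rw [Subgroup.coe_mul] at h2
    rw [← T_mul, hzg, T_mul, T_mul, hc, mem_Fx.1 h2 g, T_mul]
  have h2 : ∃ z x, ad F z = 1 ∧ (t : ↥(Zgrp F)) ^ 2 = z * ψ x := by
    obtain ⟨g, hg⟩ := pow_inner (α := ι t) (N := 2) (by rw [ht, one_pow]) (Or.inl even_two)
    rw [← map_pow] at hg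
    obtain ⟨z, hz, hmz⟩ := h.exists_z hg
    exact ⟨z, g, hz, by rw [← hmz, Subgroup.coe_pow]⟩
  obtain ⟨z', g', hz', ht2⟩ := h2
  obtain ⟨d, hd3, hd⟩ := hB.scal f hz'
  have hd0 : f d ≠ 0 := by
    intro h0
    have : d = 0 := f.injective (by rw [h0, map_zero])
    rw [this, zero_pow three_ne_zero] at hd3
    exact zero_ne_one hd3
  have h3 : ∀ y ∈ Fx f ψ R, T f R t (T f R t y) = f d • y := by
    intro y hy
    rw [← T_mul, ← pow_two, ht2, T_mul, mem_Fx.1 hy, hd]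
  have h4 := h3 _ (h.Fx_stable s hy)
  rw [h1 y hy, map_smul, h1 _ (h.Fx_stable t hy), h3 y hy, map_smul, smul_smul, smul_smul] at h4
  have h5 : (f c * f c * f d - f d) • T f R s y = 0 := by
    rw [sub_smul, sub_eq_zero]
    exact h4
  rw [smul_eq_zero] at h5
  rcases h5 with h5 | h5
  · have h6 : f c = 1 := by
      have h7 : f c * f c = 1 := by
        have h8 : (f c * f c - 1) * f d = 0 := by linear_combination h5
        exact sub_eq_zero.1 ((mul_eq_zero.1 h8).resolve_right hd0)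
      have h8 : f c ^ 3 = 1 := by rw [← map_pow, hc3, map_one]
      calc f c = f c ^ 3 := by linear_combination (-f c) * h7
        _ = 1 := h8
    rw [h1 y hy, h6, one_smul]
  · rw [T_eq_zero h5, map_zero, map_zero, map_zero]

/-- **`M` acts commutatively on the fixed vectors** -/
theorem Ac.comm_fix (h : Ac M ψ ι) (hB : BC ρ R) {p j : ℕ}
    (hm0 : ∃ m, ∀ x, fa K (ι m) x = x ^ p ^ j)
    (hq : ∀ m, ∃ q, ∀ x, fa K (ι m) x = x ^ p ^ (j * q)) (m m' : ↥M) {x : I27 → k} (hx : x ∈ Fx f ψ R) :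
    T f R m (T f R m' x) = T f R m' (T f R m x) := by
  obtain ⟨m0, hm0⟩ := hm0
  -- decomposition
  have dec : ∀ m : ↥M, ∃ (t : ↥M) (q : ℕ), fa K (ι t) = 1 ∧ m = t * m0 ^ q := by
    intro m
    obtain ⟨q, hq⟩ := hq m
    refine ⟨m * (m0 ^ q)⁻¹, q, ?_, by rw [inv_mul_cancel_right]⟩
    have h2 : ∀ (s : ℕ) x, (fa K (ι m0) ^ s) x = x ^ p ^ (j * s) := by
      intro s
      induction s with
      | zero =>
        intro x
        rw [pow_zero, mul_zero, pow_zero, pow_one]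
        rfl
      | succ s ih =>
        intro x
        rw [pow_succ, RingAut.mul_apply, hm0, ih, ← pow_mul, ← pow_add]
        congr 2
        ring
    have h3 : fa K (ι m) = fa K (ι m0) ^ q := by
      ext x
      rw [h2, hq]
    rw [map_mul, map_mul, h3, map_inv, map_inv, map_pow, map_pow, mul_inv_cancel]
  have hpow : ∀ (q : ℕ) (s : ↥M), (∀ y ∈ Fx f ψ R, T f R m0 (T f R s y) = T f R s (T f R m0 y)) →
      ∀ y ∈ Fx f ψ R, T f R ((m0 ^ q : ↥M) : ↥(Zgrp F)) (T f R s y) = T f R s (T f R ((m0 ^ q : ↥M) : ↥(Zgrp F)) y) := by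
    intro q s hs
    induction q with
    | zero =>
      intro y _
      rw [pow_zero, Subgroup.coe_one, map_one]
      rfl
    | succ q ih =>
      intro y hy
      rw [pow_succ, Subgroup.coe_mul, T_mul, hs y hy, ih _ (h.Fx_stable m0 hy), T_mul _ _ y]
  obtain ⟨t, q, ht, rfl⟩ := dec m
  obtain ⟨t', q', ht', rfl⟩ := dec m'
  have h1 : ∀ y ∈ Fx f ψ R, T f R m0 (T f R ((t' * m0 ^ q' : ↥M) : ↥(Zgrp F)) y) =
      T f R ((t' * m0 ^ q' : ↥M) : ↥(Zgrp F)) (T f R m0 y) := by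
    intro y hy
    rw [Subgroup.coe_mul, T_mul, T_mul, ← h.comm_zero hB ht' m0 (h.Fx_stable (m0 ^ q') hy)]
    congr 1
    exact (hpow q' m0 (fun y _ => rfl) y hy).symm
  have h2 := hpow q (t' * m0 ^ q') h1 x hx
  have h3 : T f R ((t * m0 ^ q : ↥M) : ↥(Zgrp F)) x = T f R t (T f R ((m0 ^ q : ↥M) : ↥(Zgrp F)) x) := by
    rw [Subgroup.coe_mul, T_mul]
  have h4 : T f R ((t * m0 ^ q : ↥M) : ↥(Zgrp F)) (T f R ((t' * m0 ^ q' : ↥M) : ↥(Zgrp F)) x) =
      T f R t (T f R ((m0 ^ q : ↥M) : ↥(Zgrp F)) (T f R ((t' * m0 ^ q' : ↥M) : ↥(Zgrp F)) x)) :=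
    T_mul (t : ↥(Zgrp F)) ((m0 ^ q : ↥M) : ↥(Zgrp F)) _
  rw [h4, h2, h.comm_zero hB ht _ (h.Fx_stable (m0 ^ q) hx), h3]

end Cfsg.Agent.R2.H8.NoFix.MS
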