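import Mathlib
import Cfsg.Agent.R2.H8.NoFix.MS
import Cfsg.Agent.R2.H8.NoFix.Rep

/-!
# S5749, S5750, box NOFIX: two-dimensional representations of `M` (helper8)

* `ms_count`, `dimS_cf`, `dvd_count` : the multiset of the composition factors and the shift;
* `two_trivial` : if `M` induces a non-trivial group of field automorphisms on `A = PSL₂(K)`, then all two-dimensional
  representations of `M` in the defining characteristic are trivial on `A`.
-/

set_option autoImplicit false
set_option linter.unusedSectionVars false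

namespace Cfsg.Agent.R2.H8.NoFix.Two

open Cfsg Cfsg.Lie Module Matrix
open Cfsg.Agent.ChevalleyStructure
open Cfsg.Agent.ChevalleyStructure.E6Min.Basic Cfsg.Agent.ChevalleyStructure.E6Min.Adjoint
open Cfsg.Agent.H163.E6
open Cfsg.Agent.H943.SL2Rel Cfsg.Agent.H943.SL2Mod Cfsg.Agent.H943.RepAdd Cfsg.Agent.R2.H28.SL2 Cfsg.Agent.R2.SL2
open Cfsg.Agent.H179.SLC (IsSS)
open Cfsg.Agent.ClassicalGeometry.AutPSL.Auto (cj fld coe_cj coe_fld_apply)
open Cfsg.Agent.R2.H9.E6 Cfsg.Agent.R2.H8.NoFix.Aut Cfsg.Agent.R2.H8.NoFix.MS Cfsg.Agent.R2.H8.NoFix.Rep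
open Cfsg.Agent.R2.H8.NoFix.Shift
open Cfsg.Agent.H199.PslAut

universe u v w

theorem ms_count {p a : ℕ} {s : Multiset ℕ} (hs : ∀ b ∈ s, b < p ^ a) : ms p a (fun b => s.count b) = s := by
  refine Multiset.ext.2 fun b => ?_
  rw [count_ms]
  split_ifs with h
  · rfl
  · exact (Multiset.count_eq_zero_of_notMem fun hb => h (hs b hb)).symm

theorem two_pow_le {p : ℕ} [hp : Fact p.Prime] (b : ℕ) : 2 ^ (tyl p b).length ≤ (Bp p b).card := by
  have h1 : (tyl p b).length = (typ p b).card := by rw [← coe_tyl, Multiset.coe_card]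
  rw [card_Bp, h1]
  unfold Cfsg.Agent.R2.SL2.pr
  have h2 := Multiset.pow_card_le_prod (s := (typ p b).map fun d => d + 1) (a := 2) (by
    intro x hx
    obtain ⟨d, hd, rfl⟩ := Multiset.mem_map.1 hx
    have := (mem_typ hp.out.one_lt hd).1
    omega)
  rwa [Multiset.card_map] at h2

section

variable {k : Type u} [Field k] [DecidableEq k] {K : Type w} [Field K] [Fintype K] [DecidableEq K] (ι : K →+* k)
variable (p : ℕ) [Fact p.Prime] [CharP k p] [CharP K p] [IsAlgClosed k] {a : ℕ} (hF : Fintype.card K = p ^ a)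

include hF

theorem dimS_cf {W : Type v} [AddCommGroup W] [Module k W] [FiniteDimensional k W]
    (ρ : Representation k (SpecialLinearGroup (Fin 2) K) W) : dimS p (cf (Sy.{u, v, w} ι p) ρ) = finrank k W := by
  have h1 := dim_ms (isMult_cf ι p hF ρ)
  rwa [ms_count (cf_lt.{u, v, w} ι p hF ρ)] at h1

/-- **the shift** for a representation normalized by an element inducing the field automorphism `x ↦ x ^ p ^ j` -/
theorem dvd_count {W : Type v} [AddCommGroup W] [Module k W] [FiniteDimensional k W]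
    (ρ : Representation k (SpecialLinearGroup (Fin 2) K) W) {C : GL (Fin 2) K} {σ : K ≃+* K} {j n : ℕ}
    (hσ : ∀ x, σ x = x ^ p ^ j) (T : W ≃ₗ[k] W) (hT : ∀ g v, T (ρ g v) = ρ (cj C (fld σ g)) (T v)) (hn : a = j * n)
    (t : List ℕ) : n ∣ t.length * ((cf (Sy.{u, v, w} ι p) ρ).map (tyl p)).count t :=
  dvd_of_inv (ha_pos p hF) hn (cf_lt.{u, v, w} ι p hF ρ) (cf_shift.{u, v, w} ι p hF ρ hσ T hT) t

/-- a two-dimensional module invariant under a non-trivial shift -/
theorem cf_two {W : Type v} [AddCommGroup W] [Module k W] [FiniteDimensional k W]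
    (ρ : Representation k (SpecialLinearGroup (Fin 2) K) W) (h2 : finrank k W = 2) {n : ℕ} (hn : n ≠ 1)
    (h : ∀ t : List ℕ, n ∣ t.length * ((cf (Sy.{u, v, w} ι p) ρ).map (tyl p)).count t) :
    ∀ b ∈ cf (Sy.{u, v, w} ι p) ρ, b = 0 := by
  intro b hb
  by_contra hb0
  have hd := dimS_cf.{u, v, w} ι p hF ρ
  rw [h2] at hd
  obtain ⟨s, hs⟩ := Multiset.exists_cons_of_mem hb
  rw [hs] at hd h
  have h1 := two_pow_le (p := p) b
  have h3 : (tyl p b).length ≠ 0 := by
    rw [ne_eq, List.length_eq_zero_iff, tyl_eq_nil]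
    exact hb0
  unfold dimS at hd
  rw [Multiset.map_cons, Multiset.sum_cons] at hd
  have h4 : (tyl p b).length = 1 := by
    by_contra h5
    have h6 : 2 ^ 2 ≤ 2 ^ (tyl p b).length := Nat.pow_le_pow_right (by norm_num) (by omega)
    omega
  have h5 : s = 0 := by
    by_contra h6
    obtain ⟨c, hc⟩ := Multiset.exists_mem_of_ne_zero h6
    obtain ⟨s', rfl⟩ := Multiset.exists_cons_of_mem hc
    rw [Multiset.map_cons, Multiset.sum_cons] at hd
    have h7 := two_pow_le (p := p) c
    have h8 : 1 ≤ 2 ^ (tyl p c).length := Nat.one_le_two_pow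
    rw [h4] at h1
    omega
  have h6 := h (tyl p b)
  rw [h5, h4, Multiset.map_cons, Multiset.map_zero, Multiset.count_cons_self, Multiset.count_zero] at h6
  exact hn (Nat.dvd_one.1 h6)

/-- elements of the torus act trivially if all composition factors are trivial -/
theorem torus_trivial {W : Type v} [AddCommGroup W] [Module k W] [FiniteDimensional k W]
    (ρ : Representation k (SpecialLinearGroup (Fin 2) K) W) (h : ∀ b ∈ cf (Sy.{u, v, w} ι p) ρ, b = 0) (lam : Kˣ) :
    ρ (Cfsg.Agent.H943.SL2Rel.h lam) = 1 := by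
  obtain ⟨lam0, hlam⟩ := IsCyclic.exists_generator (α := Kˣ)
  have hq := two_le_q p hF
  have hN : ((Fintype.card K - 1 : ℕ) : k) ≠ 0 := by
    rw [hF, Nat.cast_sub (by omega), q_cast (k := k) p hF, Nat.cast_one, zero_sub]
    exact neg_ne_zero.2 one_ne_zero
  have hζ : (ι lam : k) ^ (Fintype.card K - 1) = 1 := by
    rw [← map_pow, ← Units.val_pow_eq_pow_val, ← Fintype.card_units, pow_card_eq_one, Units.val_one, map_one]
  have h1 := (isMult_cf ι p hF ρ).eigen _ (ι lam) _ (Cfsg.Agent.H179.SLC.isSS_h ι lam) hζ hN 1 (one_pow _)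
  have hs : cf (Sy.{u, v, w} ι p) ρ = Multiset.replicate (cf (Sy.{u, v, w} ι p) ρ).card 0 :=
    Multiset.eq_replicate.2 ⟨rfl, h⟩
  have hd := (isMult_cf ι p hF ρ).dim
  have hB : Bf k 0 = {0} := by
    rw [Bf_eq (k := k) (p := p), Bp_zero]
  have h2 : ∀ g : ℕ → ℕ, ∑ b ∈ Finset.range (p ^ a), (cf (Sy.{u, v, w} ι p) ρ).count b * g b =
      (cf (Sy.{u, v, w} ι p) ρ).card * g 0 := by
    intro g
    rw [Finset.sum_eq_single 0]
    · rw [hs, Multiset.count_replicate_self, Multiset.card_replicate]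
    · intro b _ hb0
      rw [Multiset.count_eq_zero_of_notMem fun hb => hb0 (h b hb), zero_mul]
    · intro h0
      exact absurd (Finset.mem_range.2 (by omega)) h0
  rw [h2] at h1 hd
  have h3 : mf 0 (ι lam : k) 1 = 1 := by
    unfold mf
    rw [hB, Finset.filter_true_of_mem]
    · rfl
    · intro m hm
      rw [Finset.mem_singleton] at hm
      rw [hm, pow_zero, Nat.sub_zero, pow_zero, mul_one]
  rw [h3, mul_one] at h1
  rw [hB, Finset.card_singleton, mul_one] at hd
  have h4 : eig ρ (Cfsg.Agent.H943.SL2Rel.h lam) 1 = ⊤ := Submodule.eq_top_of_finrank_eq (by rw [h1, hd])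
  ext x
  have h5 : x ∈ eig ρ (Cfsg.Agent.H943.SL2Rel.h lam) 1 := by rw [h4]; trivial
  rw [mem_eig, one_smul] at h5
  exact h5

end

theorem pq_cj {K : Type w} [Field K] [Fintype K] {C : GL (Fin 2) K} {σ : K ≃+* K}
    {α : MulAut (ProjectiveSpecialLinearGroup (Fin 2) K)} (h : α = Psi 2 K C * phi 2 K σ)
    (g : SpecialLinearGroup (Fin 2) K) : α (pq g) = pq (cj C (fld σ g)) := by
  rw [h]
  rfl

variable {F : Type u} [Field F] {K : Type w} [Field K] [Fintype K] {M : Subgroup ↥(Zgrp F)}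
  {ψ : ProjectiveSpecialLinearGroup (Fin 2) K →* ↥(Zgrp F)} {ι : ↥M →* MulAut (ProjectiveSpecialLinearGroup (Fin 2) K)}

/-- **two-dimensional representations of `M`** -/
theorem two_trivial {p a j n : ℕ} [Fact p.Prime] [CharP F p] [CharP K p] (hK : Fintype.card K = p ^ a)
    (h4 : 4 ≤ Fintype.card K) (hA : Ac M ψ ι)
    (hn : a = j * n) (hn1 : n ≠ 1) (hm0 : ∃ m, ∀ x, fa K (ι m) x = x ^ p ^ j) (θ : ↥M →* GL (Fin 2) F)
    (x : ProjectiveSpecialLinearGroup (Fin 2) K) : θ ⟨ψ x, hA.mem x⟩ = 1 := by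
  classical
  obtain ⟨m0, hm0⟩ := hm0
  obtain ⟨C, hC⟩ := fa_spec (ι m0)
  let k := AlgebraicClosure F
  let f : F →+* k := algebraMap F k
  have hck : CharP k p := charP_of_injective_ringHom f.injective p
  obtain ⟨κ⟩ : Nonempty (K →+* k) := by
    letI : Algebra (ZMod p) K := ZMod.algebra K p
    letI : Algebra (ZMod p) k := ZMod.algebra k p
    have : Algebra.IsAlgebraic (ZMod p) K := inferInstance
    exact ⟨(IsAlgClosed.lift (R := ZMod p) (S := K) (M := k)).toRingHom⟩
  -- the representation of `M`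
  let Θ : ↥M →* ((Fin 2 → k) →ₗ[k] (Fin 2 → k)) :=
    { toFun := fun m => Matrix.toLin' ((θ m : Matrix (Fin 2) (Fin 2) F).map f)
      map_one' := by
        rw [map_one, Units.val_one, Matrix.map_one f (map_zero f) (map_one f), Matrix.toLin'_one]
        rfl
      map_mul' := fun m m' => by
        rw [map_mul, Units.val_mul, Matrix.map_mul, Matrix.toLin'_mul]
        rfl }
  have hΘ : ∀ m, Θ m = Matrix.toLin' ((θ m : Matrix (Fin 2) (Fin 2) F).map f) := fun m => rfl
  let ψM : ProjectiveSpecialLinearGroup (Fin 2) K →* ↥M := MonoidHom.codRestrict ψ M hA.mem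
  have hψM : ∀ x, ψM x = ⟨ψ x, hA.mem x⟩ := fun x => rfl
  let ρ : Representation k (SpecialLinearGroup (Fin 2) K) (Fin 2 → k) := (Θ.comp ψM).comp pq
  have hρ : ∀ g, ρ g = Θ (ψM (pq g)) := fun g => rfl
  have hinv : ∀ m v, Θ m⁻¹ (Θ m v) = v := by
    intro m v
    rw [← Module.End.mul_apply, ← map_mul, inv_mul_cancel, map_one]
    rfl
  let T : (Fin 2 → k) ≃ₗ[k] (Fin 2 → k) := LinearEquiv.ofLinear (Θ m0) (Θ m0⁻¹)
    (by
      ext1 v
      have := hinv m0⁻¹
      rw [inv_inv] at this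
      ext1
      simp only [LinearMap.comp_apply, LinearMap.id_apply]
      rw [this])
    (by
      ext1 v
      ext1
      simp only [LinearMap.comp_apply, LinearMap.id_apply]
      rw [hinv])
  have hT : ∀ g v, T (ρ g v) = ρ (cj C (fld (fa K (ι m0)) g)) (T v) := by
    intro g v
    show Θ m0 (Θ (ψM (pq g)) v) = Θ (ψM (pq (cj C (fld (fa K (ι m0)) g)))) (Θ m0 v)
    rw [← Module.End.mul_apply, ← Module.End.mul_apply, ← map_mul, ← map_mul, ← pq_cj hC]
    congr 2
    apply Subtype.ext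
    show (m0 : ↥(Zgrp F)) * ψ (pq g) = ψ (ι m0 (pq g)) * m0
    rw [hA.conj, inv_mul_cancel_right]
  have hfin : finrank k (Fin 2 → k) = 2 := by rw [Module.finrank_fintype_fun_eq_card, Fintype.card_fin]
  have hcf := cf_two.{u, u, w} κ p hK ρ hfin hn1 fun t => dvd_count.{u, u, w} κ p hK ρ hm0 T hT hn t
  -- the kernel
  let θ' : ProjectiveSpecialLinearGroup (Fin 2) K →* GL (Fin 2) F := θ.comp ψM
  have hsim := psl_simple h4
  rcases (MonoidHom.normal_ker θ').eq_bot_or_eq_top with h | h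
  · exfalso
    obtain ⟨lam, hlam⟩ := IsCyclic.exists_generator (α := Kˣ)
    have h1 := torus_trivial.{u, u, w} κ p hK ρ hcf lam
    have h2 : θ' (pq (Cfsg.Agent.H943.SL2Rel.h lam)) = 1 := by
      apply Units.ext
      rw [hρ, hΘ] at h1
      have h3 : Matrix.toLin' ((θ (ψM (pq (Cfsg.Agent.H943.SL2Rel.h lam))) : Matrix (Fin 2) (Fin 2) F).map f) =
          Matrix.toLin' (1 : Matrix (Fin 2) (Fin 2) k) := by
        rw [h1, Matrix.toLin'_one]
        rfl
      have h4 := Matrix.toLin'.injective h3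
      ext i j
      have h5 := congrFun (congrFun h4 i) j
      rw [Matrix.map_apply] at h5
      apply f.injective
      show f ((θ (ψM (pq (Cfsg.Agent.H943.SL2Rel.h lam))) : Matrix (Fin 2) (Fin 2) F) i j) = _
      rw [h5, Units.val_one, Matrix.one_apply, Matrix.one_apply]
      split_ifs
      · rw [map_one]
      · rw [map_zero]
    have h3 : pq (Cfsg.Agent.H943.SL2Rel.h lam) ∈ θ'.ker := h2
    rw [h, Subgroup.mem_bot, pq_eq_one] at h3
    have h5 : (lam : K) ^ 2 = 1 := by
      rcases h3 with h3 | h3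
      · have h4 := congrFun (congrFun (congrArg (fun x : SpecialLinearGroup (Fin 2) K => (x : Matrix (Fin 2) (Fin 2) K)) h3) 0) 0
        have h5 : (lam : K) = 1 := by simpa [Cfsg.Agent.H943.SL2Rel.h] using h4
        rw [h5, one_pow]
      · have h4 := congrFun (congrFun (congrArg (fun x : SpecialLinearGroup (Fin 2) K => (x : Matrix (Fin 2) (Fin 2) K)) h3) 0) 0
        have h5 : (lam : K) = -1 := by simpa [Cfsg.Agent.H943.SL2Rel.h] using h4
        rw [h5, neg_one_sq]
    have h6 : lam ^ 2 = 1 := Units.ext (by rw [Units.val_pow_eq_pow_val, h5, Units.val_one])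
    have h7 : orderOf lam = Fintype.card K - 1 := by
      rw [orderOf_eq_card_of_forall_mem_zpowers hlam, Nat.card_eq_fintype_card, Fintype.card_units]
    have h8 := Nat.le_of_dvd (by norm_num) (orderOf_dvd_of_pow_eq_one h6)
    omega
  · have h1 : x ∈ θ'.ker := by rw [h]; trivial
    exact h1

end Cfsg.Agent.R2.H8.NoFix.Two
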