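import Mathlib
import Cfsg.Agent.R2.H8.NoFix.Pat

/-!
# S5749, S5750, box NOFIX: the pattern `9 [] + 9 [1]` in characteristic 2 (helper8)

* `E1`, ..., `E5` : sums of powers of two modulo `2 ^ a - 1`;
* `labels` : the labels of a multiset of pattern `9 [] + 9 [1]` invariant under the shift by `j`, `a = 9 j`;
* `exc_false` : this pattern does not occur.
-/

set_option autoImplicit false
set_option linter.unusedSectionVars false
set_option maxHeartbeats 400000

namespace Cfsg.Agent.R2.H8.NoFix.Exc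

open Cfsg Cfsg.Lie Module Matrix
open Cfsg.Agent.ChevalleyStructure
open Cfsg.Agent.ChevalleyStructure.E6Min.Basic Cfsg.Agent.ChevalleyStructure.E6Min.Adjoint
open Cfsg.Agent.H163.E6
open Cfsg.Agent.H943.SL2Rel Cfsg.Agent.H943.SL2Mod Cfsg.Agent.H943.RepAdd Cfsg.Agent.R2.H28.SL2 Cfsg.Agent.R2.SL2
open Cfsg.Agent.R2.H9.E6 Cfsg.Agent.R2.H8.NoFix.Two Cfsg.Agent.R2.H8.NoFix.Pat Cfsg.Agent.R2.H8.NoFix.Shift
open Cfsg.Agent.R2.H8.NoFix.Num
open Cfsg.Agent.H952.F4 (ev)

universe u w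

/-! ### powers of two -/

theorem pow_add_eq {i j k : ℕ} (h : 2 ^ i + 2 ^ j = 2 ^ k) : i = j := by
  have key : ∀ i j : ℕ, 2 ^ i + 2 ^ j = 2 ^ k → ¬ i < j := by
    intro i j h hij
    have h1 : 2 ^ i < 2 ^ j := Nat.pow_lt_pow_right (by norm_num) hij
    have h2 : 0 < 2 ^ i := Nat.pow_pos (by norm_num)
    have h3 : 2 ^ j < 2 ^ k := by omega
    have h4 : 2 ^ k < 2 ^ (j + 1) := by rw [pow_succ]; omega
    have h5 := (Nat.pow_lt_pow_iff_right (by norm_num : 1 < 2)).1 h3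
    have h6 := (Nat.pow_lt_pow_iff_right (by norm_num : 1 < 2)).1 h4
    omega
  have h1 := key i j h
  have h2 := key j i (by rw [add_comm]; exact h)
  omega

section bounds

variable {a : ℕ} (ha : 9 ≤ a)

include ha

theorem bd : ∃ X : ℤ, 16 ≤ X ∧ (2 : ℤ) ^ a = 32 * X ∧ (∀ i < a, (0 : ℤ) < 2 ^ i ∧ (2 : ℤ) ^ i ≤ 16 * X) ∧
    (∀ i j, i < a → j < a → i ≠ j → (2 : ℤ) ^ i + 2 ^ j ≤ 24 * X) ∧ ∀ i, 1 ≤ i → i + 5 ≤ a → 2 ≤ (2 : ℤ) ^ i ∧ (2 : ℤ) ^ i ≤ X := by
  obtain ⟨c, rfl⟩ : ∃ c, a = c + 5 := ⟨a - 5, by omega⟩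
  have hle : ∀ i j : ℕ, i ≤ j → (2 : ℤ) ^ i ≤ 2 ^ j := fun i j h => pow_le_pow_right₀ (by norm_num) h
  have h0 : ∀ i : ℕ, (0 : ℤ) < 2 ^ i := fun i => by positivity
  have h4 : (2 : ℤ) ^ (c + 4) = 16 * 2 ^ c := by rw [pow_add]; ring
  have h3 : (2 : ℤ) ^ (c + 3) = 8 * 2 ^ c := by rw [pow_add]; ring
  refine ⟨2 ^ c, ?_, by rw [pow_add]; ring, fun i hi => ⟨h0 i, ?_⟩, fun i j hi hj hij => ?_, fun i h1 h2 => ⟨?_, ?_⟩⟩
  · have := hle 4 c (by omega)
    norm_num at this
    exact this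
  · rw [← h4]
    exact hle _ _ (by omega)
  · rcases Nat.lt_or_gt_of_ne hij with h | h
    · have h5 := hle i (c + 3) (by omega)
      have h6 := hle j (c + 4) (by omega)
      rw [h3] at h5
      rw [h4] at h6
      linarith
    · have h5 := hle j (c + 3) (by omega)
      have h6 := hle i (c + 4) (by omega)
      rw [h3] at h5
      rw [h4] at h6
      linarith
  · have := hle 1 i h1
    rwa [pow_one] at this
  · exact hle _ _ (by omega)

omit ha in
theorem eq_zero_of {N x : ℤ} (h : N ∣ x) (h1 : -N < x) (h2 : x < N) : x = 0 := by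
  obtain ⟨c, rfl⟩ := h
  have hN : 0 < N := by linarith
  have h3 : -1 < c := by
    by_contra h4
    have h5 : c ≤ -1 := by omega
    nlinarith
  have h4 : c < 1 := by
    by_contra h4
    have h5 : 1 ≤ c := by omega
    nlinarith
  have h5 : c = 0 := by omega
  rw [h5, mul_zero]

omit ha in
theorem eq_of {N x : ℤ} (h : N ∣ x) (h1 : 0 < x) (h2 : x < 2 * N) : x = N := by
  have h3 := eq_zero_of (N := N) (x := x - N) (dvd_sub_self_right.2 h) (by linarith) (by linarith)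
  linarith

theorem E1 {i j : ℕ} (hi : i < a) (hj : j < a) (h : (2 ^ a - 1 : ℤ) ∣ 2 ^ i + 2 ^ j) : False := by
  obtain ⟨X, hX, h1, h2, h3, -⟩ := bd ha
  have h4 := eq_of h (by have := (h2 i hi).1; have := (h2 j hj).1; linarith)
    (by have := (h2 i hi).2; have := (h2 j hj).2; linarith)
  by_cases hij : i = j
  · subst hij
    rw [h1] at h4
    omega
  · have := h3 i j hi hj hij
    linarith

theorem E2 {i j : ℕ} (hi : i < a) (hj : j < a) (h : (2 ^ a - 1 : ℤ) ∣ 2 ^ i - 2 ^ j) : i = j := by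
  obtain ⟨X, hX, h1, h2, -⟩ := bd ha
  have h4 := eq_zero_of h (by have := (h2 i hi).1; have := (h2 j hj).2; linarith)
    (by have := (h2 i hi).2; have := (h2 j hj).1; linarith)
  have h5 : (2 : ℤ) ^ i = 2 ^ j := by linarith
  exact Nat.pow_right_injective le_rfl (by exact_mod_cast h5)

theorem E3 {i j l : ℕ} (hi : i < a) (hj : j < a) (hl : 1 ≤ l) (hl' : l + 5 ≤ a)
    (h : (2 ^ a - 1 : ℤ) ∣ 2 ^ l + 2 ^ i + 2 ^ j) : False := by
  obtain ⟨X, hX, h1, h2, h3, h5⟩ := bd ha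
  have hlX := h5 l hl hl'
  have h4 := eq_of h (by have := (h2 i hi).1; have := (h2 j hj).1; linarith)
    (by have := (h2 i hi).2; have := (h2 j hj).2; linarith)
  by_cases hij : i = j
  · subst hij
    obtain ⟨l', rfl⟩ : ∃ l', l = l' + 1 := ⟨l - 1, by omega⟩
    rw [h1, pow_succ] at h4
    omega
  · have := h3 i j hi hj hij
    linarith

theorem E4 {i j l : ℕ} (hi : i < a) (hj : j < a) (hl : 1 ≤ l) (hl' : l + 5 ≤ a)
    (h : (2 ^ a - 1 : ℤ) ∣ 2 ^ l + 2 ^ i - 2 ^ j) : i = l := by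
  obtain ⟨X, hX, h1, h2, h3, h5⟩ := bd ha
  have hlX := h5 l hl hl'
  have h4 := eq_zero_of h (by have := (h2 i hi).1; have := (h2 j hj).2; linarith)
    (by have := (h2 i hi).2; have := (h2 j hj).1; linarith)
  have h6 : (2 : ℤ) ^ l + 2 ^ i = 2 ^ j := by linarith
  exact (pow_add_eq (by exact_mod_cast h6 : 2 ^ l + 2 ^ i = 2 ^ j)).symm

theorem E5 {i j l : ℕ} (hi : i < a) (hj : j < a) (hl : 1 ≤ l) (hl' : l + 5 ≤ a)
    (h : (2 ^ a - 1 : ℤ) ∣ 2 ^ l - 2 ^ i - 2 ^ j) : i = j := by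
  obtain ⟨X, hX, h1, h2, h3, h5⟩ := bd ha
  have hlX := h5 l hl hl'
  have h4 := eq_zero_of h (by have := (h2 i hi).2; have := (h2 j hj).2; linarith)
    (by have := (h2 i hi).1; have := (h2 j hj).1; linarith)
  have h6 : (2 : ℤ) ^ i + 2 ^ j = 2 ^ l := by linarith
  exact pow_add_eq (by exact_mod_cast h6 : 2 ^ i + 2 ^ j = 2 ^ l)

end bounds

/-! ### the labels -/

theorem cyc_pow {a i : ℕ} (ha : 1 ≤ a) (hi : i < a) : cyc 2 a (2 ^ i) = 2 ^ ((i + 1) % a) := by
  unfold cyc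
  by_cases h : i + 1 = a
  · have h1 : a - 1 = i := by omega
    rw [h1, Nat.mod_self, Nat.div_self (Nat.pow_pos (by norm_num)), h, Nat.mod_self]
    norm_num
  · have h1 : 2 ^ i < 2 ^ (a - 1) := Nat.pow_lt_pow_right (by norm_num) (by omega)
    rw [Nat.mod_eq_of_lt h1, Nat.div_eq_of_lt h1, Nat.mod_eq_of_lt (show i + 1 < a by omega), pow_succ',
      add_zero]

theorem cyc_iter_pow {a i : ℕ} (ha : 1 ≤ a) (hi : i < a) (n : ℕ) : (cyc 2 a)^[n] (2 ^ i) = 2 ^ ((i + n) % a) := by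
  induction n with
  | zero => rw [Function.iterate_zero, id, add_zero, Nat.mod_eq_of_lt hi]
  | succ n ih => rw [Function.iterate_succ_apply', ih, cyc_pow ha (Nat.mod_lt _ (by omega)), Nat.mod_add_mod, add_assoc]

theorem count_le_map {α β : Type*} [DecidableEq α] [DecidableEq β] (f : α → β) (s : Multiset α) (b : α) :
    s.count b ≤ (s.map f).count (f b) := by
  rw [Multiset.count_map, Multiset.count_eq_card_filter_eq]
  exact Multiset.card_le_card (Multiset.monotone_filter_right s fun x hx => by rw [hx])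

structure Lab (a : ℕ) (s : Multiset ℕ) (l : ℕ) : Prop where
  cases : ∀ b ∈ s, b = 0 ∨ ∃ i < a, b = 2 ^ i
  one : ∀ i < a, s.count (2 ^ i) ≤ 1
  low : 1 ≤ l
  high : l + 5 ≤ a
  mem : 2 ^ l ∈ s

theorem labels {a j : ℕ} (hj : 1 ≤ j) (ha : a = j * 9) {s : Multiset ℕ} (hs : ∀ b ∈ s, b < 2 ^ a)
    (hw : (wx : Multiset (List ℕ)) = s.map (tyl 2)) (hsh : s.map (cyc 2 a)^[j] = s) : ∃ l, Lab a s l := by
  have ha1 : 1 ≤ a := by omega
  have hlt : ∀ i, 2 ^ i < 2 ^ a → i < a := fun i h => (Nat.pow_lt_pow_iff_right (by norm_num)).1 h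
  have hcases : ∀ b ∈ s, b = 0 ∨ ∃ i < a, b = 2 ^ i := by
    intro b hb
    have h1 : tyl 2 b ∈ (wx : Multiset (List ℕ)) := by
      rw [hw]
      exact Multiset.mem_map_of_mem _ hb
    have h2 : tyl 2 b = [] ∨ tyl 2 b = [1] := by
      rw [Multiset.mem_coe] at h1
      unfold wx at h1
      simp only [List.mem_cons, List.not_mem_nil, or_false] at h1
      tauto
    rcases h2 with h2 | h2
    · exact Or.inl (tyl_eq_nil.1 h2)
    · obtain ⟨i, hi⟩ := tyl_one h2
      rw [one_mul] at hi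
      refine Or.inr ⟨i, hlt i ?_, hi⟩
      rw [← hi]
      exact hs b hb
  have hmono1 : ∀ i < a, s.count (2 ^ i) ≤ s.count (2 ^ ((i + j) % a)) := by
    intro i hi
    have h1 := count_le_map (cyc 2 a)^[j] s (2 ^ i)
    rwa [cyc_iter_pow ha1 hi, hsh] at h1
  have hmono : ∀ i < a, ∀ m, s.count (2 ^ i) ≤ s.count (2 ^ ((i + m * j) % a)) := by
    intro i hi m
    induction m with
    | zero => rw [zero_mul, add_zero, Nat.mod_eq_of_lt hi]
    | succ m ih =>
      refine ih.trans ((hmono1 _ (Nat.mod_lt _ (by omega))).trans ?_)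
      rw [Nat.mod_add_mod]
      have : i + m * j + j = i + (m + 1) * j := by ring
      rw [this]
  have hone : ∀ i < a, s.count (2 ^ i) ≤ 1 := by
    intro i hi
    have hinj : ∀ m m' : ℕ, m < 9 → m' < 9 → (i + m * j) % a = (i + m' * j) % a → m = m' := by
      have key : ∀ m m' : ℕ, m < m' → m' < 9 → (i + m * j) % a ≠ (i + m' * j) % a := by
        intro m m' h1 h2 he
        have h3 : a ∣ (i + m' * j) - (i + m * j) := (Nat.modEq_iff_dvd' (by nlinarith)).1 he
        have h4 : (i + m' * j) - (i + m * j) = (m' - m) * j := by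
          rw [Nat.sub_mul]
          omega
        rw [h4, ha, mul_comm j 9] at h3
        have h5 := Nat.dvd_of_mul_dvd_mul_right (by omega) h3
        have h6 := Nat.le_of_dvd (by omega) h5
        omega
      intro m m' h1 h2 he
      rcases lt_trichotomy m m' with h | h | h
      · exact absurd he (key m m' h h2)
      · exact h
      · exact absurd he.symm (key m' m h h1)
    have hnd : ((Multiset.range 9).map fun m => 2 ^ ((i + m * j) % a)).Nodup := by
      refine Multiset.Nodup.map_on ?_ (Multiset.nodup_range 9)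
      intro x hx y hy hxy
      rw [Multiset.mem_range] at hx hy
      exact hinj x y hx hy (Nat.pow_right_injective le_rfl hxy)
    have hle : s.count (2 ^ i) • ((Multiset.range 9).map fun m => 2 ^ ((i + m * j) % a)) ≤ s.filter fun b => b ≠ 0 := by
      rw [Multiset.le_iff_count]
      intro b
      rw [Multiset.count_nsmul]
      by_cases hb : b ∈ (Multiset.range 9).map fun m => 2 ^ ((i + m * j) % a)
      · rw [Multiset.count_eq_one_of_mem hnd hb, mul_one]
        obtain ⟨m, -, rfl⟩ := Multiset.mem_map.1 hb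
        rw [Multiset.count_filter_of_pos (by positivity)]
        exact hmono i hi m
      · rw [Multiset.count_eq_zero_of_notMem hb, mul_zero]
        exact Nat.zero_le _
    have h1 := Multiset.card_le_card hle
    have h2 : (s.filter fun b => b ≠ 0).card = 9 := by
      have h3 : ((wx : Multiset (List ℕ)).filter fun t => t ≠ []).card = 9 := by decide
      rw [hw, Multiset.filter_map, Multiset.card_map] at h3
      rw [← h3]
      congr 1
      refine Multiset.filter_congr fun b _ => ?_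
      rw [Function.comp_apply, ne_eq, ne_eq, tyl_eq_nil]
    rw [Multiset.card_nsmul, Multiset.card_map, Multiset.card_range, h2] at h1
    omega
  obtain ⟨i0, hi0, hi0s⟩ : ∃ i0 < a, 2 ^ i0 ∈ s := by
    have h1 : [1] ∈ (wx : Multiset (List ℕ)) := by
      rw [Multiset.mem_coe]
      decide
    rw [hw] at h1
    obtain ⟨b, hb, hb1⟩ := Multiset.mem_map.1 h1
    rcases hcases b hb with rfl | ⟨i, hi, rfl⟩
    · rw [tyl_eq_nil.2 rfl] at hb1
      exact absurd hb1 (by decide)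
    · exact ⟨i, hi, hb⟩
  have hd : i0 / j < 9 := by
    rw [Nat.div_lt_iff_lt_mul (by omega)]
    omega
  have hm : i0 % j < j := Nat.mod_lt _ (by omega)
  have hdm := Nat.div_add_mod i0 j
  refine ⟨4 * j + i0 % j, hcases, hone, by omega, by omega, ?_⟩
  have h1 := hmono i0 hi0 (13 - i0 / j)
  have h2 : i0 + (13 - i0 / j) * j = 4 * j + i0 % j + a := by
    obtain ⟨c, hc⟩ : ∃ c, i0 / j + c = 13 := ⟨13 - i0 / j, by omega⟩
    have h3 : 13 - i0 / j = c := by omega
    rw [h3, ha]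
    have h4 : j * (i0 / j) + c * j = 13 * j := by
      rw [← hc]
      ring
    linarith
  rw [h2, Nat.add_mod_right, Nat.mod_eq_of_lt (by omega)] at h1
  have h3 : 1 ≤ s.count (2 ^ i0) := Multiset.one_le_count_iff_mem.2 hi0s
  exact Multiset.one_le_count_iff_mem.1 (h3.trans h1)

/-! ### the incidence relations of the weights -/

open Cfsg.Agent.ChevalleyStructure.E6Min.Forms (rel th)

set_option maxRecDepth 100000 in
theorem th_facts : ∀ l a : I27, rel l a = 2 → th l (th l a) = a ∧ th l a ≠ a ∧ th l a ≠ l ∧ a ≠ l := by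
  decide +kernel

set_option maxRecDepth 100000 in
theorem card_rel : ∀ l : I27, 3 ≤ (Finset.univ.filter fun a => rel l a = 2).card := by decide +kernel

/-! ### the multiplicities of the eigenvalues -/

section mult

variable {k : Type u} [Field k] [DecidableEq k] [CharP k 2]

theorem Bf_two_pow (i : ℕ) {m : ℕ} (h : m ∈ Bf k (2 ^ i)) : m = 0 ∨ m = 2 ^ i := by
  rw [mem_Bf] at h
  by_contra hm
  push Not at hm
  apply h.2
  rw [CharP.cast_eq_zero_iff k 2]
  exact Nat.Prime.dvd_choose_pow Nat.prime_two hm.1 hm.2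

theorem coe_zpow' (z : kˣ) (m n : ℕ) : (z : k) ^ m * ((z : k))⁻¹ ^ n = ((z ^ ((m : ℤ) - (n : ℤ)) : kˣ) : k) := by
  rw [Units.val_zpow_eq_zpow_val, ← pow_mul_inv _ z.ne_zero]

theorem mf_cases (z : kˣ) (i : ℕ) {ν : kˣ} (h : mf (2 ^ i) (z : k) (ν : k) ≠ 0) :
    ν = z ^ (2 ^ i : ℤ) ∨ ν = z ^ (-2 ^ i : ℤ) := by
  unfold mf at h
  rw [Finset.card_ne_zero] at h
  obtain ⟨m, hm⟩ := h
  rw [Finset.mem_filter, coe_zpow'] at hm
  have h1 := Units.ext hm.2
  rcases Bf_two_pow i hm.1 with h2 | h2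
  · right
    rw [← h1, h2]
    congr 1
    push_cast
    rw [Nat.sub_zero]
    push_cast
    ring
  · left
    rw [← h1, h2]
    congr 1
    rw [Nat.sub_self]
    push_cast
    ring

theorem mf_zero (z : kˣ) {ν : kˣ} (h : mf 0 (z : k) (ν : k) ≠ 0) : ν = 1 := by
  unfold mf at h
  rw [Finset.card_ne_zero] at h
  obtain ⟨m, hm⟩ := h
  rw [Finset.mem_filter, Bf_eq (k := k) (p := 2), Bp_zero, Finset.mem_singleton] at hm
  have h1 := hm.2
  rw [hm.1, Nat.sub_zero, pow_zero, pow_zero, mul_one] at h1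
  exact Units.ext h1.symm

theorem mf_le_one {a : ℕ} (ha : 9 ≤ a) {z : kˣ} (hz : IsPrimitiveRoot z (2 ^ a - 1)) {i : ℕ} (hi : i < a) (ν : kˣ) :
    mf (2 ^ i) (z : k) (ν : k) ≤ 1 := by
  unfold mf
  rw [Finset.card_le_one]
  intro m hm m' hm'
  rw [Finset.mem_filter, coe_zpow'] at hm hm'
  have h1 := Units.ext (hm.2.trans hm'.2.symm)
  have hcast : ((2 ^ a - 1 : ℕ) : ℤ) = 2 ^ a - 1 := by
    rw [Nat.cast_sub Nat.one_le_two_pow]
    push_cast
    rfl
  have key : z ^ (2 ^ i : ℤ) ≠ z ^ (-2 ^ i : ℤ) := by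
    intro h2
    have h3 : z ^ ((2 : ℤ) ^ i + 2 ^ i) = 1 := by
      rw [_root_.zpow_add]
      nth_rewrite 2 [h2]
      rw [← _root_.zpow_add, add_neg_cancel, zpow_zero]
    rw [hz.zpow_eq_one_iff_dvd, hcast] at h3
    exact E1 ha hi hi h3
  have e0 : ((0 : ℕ) : ℤ) - ((2 ^ i - 0 : ℕ) : ℤ) = -2 ^ i := by
    rw [Nat.sub_zero]
    push_cast
    ring
  have e1 : ((2 ^ i : ℕ) : ℤ) - ((2 ^ i - 2 ^ i : ℕ) : ℤ) = 2 ^ i := by
    rw [Nat.sub_self]
    push_cast
    ring
  rcases Bf_two_pow i hm.1 with h2 | h2 <;> rcases Bf_two_pow i hm'.1 with h3 | h3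
  · rw [h2, h3]
  · rw [h2, h3, e0, e1] at h1
    exact absurd h1.symm key
  · rw [h2, h3, e0, e1] at h1
    exact absurd h1 key
  · rw [h2, h3]

theorem mf_pos (z : kˣ) (i : ℕ) : mf (2 ^ i) (z : k) ((z ^ (2 ^ i : ℤ) : kˣ) : k) ≠ 0 := by
  unfold mf
  rw [Finset.card_ne_zero]
  refine ⟨2 ^ i, ?_⟩
  rw [Finset.mem_filter, coe_zpow', mem_Bf]
  refine ⟨⟨le_rfl, by rw [Nat.choose_self, Nat.cast_one]; exact one_ne_zero⟩, ?_⟩
  congr 2
  rw [Nat.sub_self]
  push_cast
  ring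

/-- multiplicities at most 1 -/
theorem sum_le_one {a : ℕ} (ha : 9 ≤ a) {z : kˣ} (hz : IsPrimitiveRoot z (2 ^ a - 1)) {s : Multiset ℕ} {l : ℕ}
    (hl : Lab a s l) {ν : kˣ} (hν : ν ≠ 1) :
    ∑ b ∈ Finset.range (2 ^ a), s.count b * mf b (z : k) (ν : k) ≤ 1 := by
  have hcast : ((2 ^ a - 1 : ℕ) : ℤ) = 2 ^ a - 1 := by
    rw [Nat.cast_sub Nat.one_le_two_pow]
    push_cast
    rfl
  have hval : ∀ b, s.count b * mf b (z : k) (ν : k) ≠ 0 → ∃ i < a, b = 2 ^ i ∧ (ν = z ^ (2 ^ i : ℤ) ∨ ν = z ^ (-2 ^ i : ℤ)) := by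
    intro b hb
    rw [mul_ne_zero_iff, Multiset.count_ne_zero] at hb
    rcases hl.cases b hb.1 with rfl | ⟨i, hi, rfl⟩
    · exact absurd (mf_zero z hb.2) hν
    · exact ⟨i, hi, rfl, mf_cases z i hb.2⟩
  by_cases hex : ∃ b, s.count b * mf b (z : k) (ν : k) ≠ 0
  · obtain ⟨b, hb⟩ := hex
    obtain ⟨i, hi, rfl, h1⟩ := hval b hb
    have hother : ∀ c, c ≠ 2 ^ i → s.count c * mf c (z : k) (ν : k) = 0 := by
      intro c hc
      by_contra hc0
      obtain ⟨i', hi', rfl, h2⟩ := hval c hc0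
      apply hc
      congr 1
      rcases h1 with h1 | h1 <;> rcases h2 with h2 | h2
      · have h3 : z ^ ((2 : ℤ) ^ i' - 2 ^ i) = 1 := by rw [_root_.zpow_sub, ← h1, ← h2, mul_inv_cancel]
        rw [hz.zpow_eq_one_iff_dvd, hcast] at h3
        exact E2 ha hi' hi h3
      · exfalso
        have h3 : z ^ ((2 : ℤ) ^ i + 2 ^ i') = 1 := by
          have h4 : z ^ ((2 : ℤ) ^ i - (-2 ^ i')) = 1 := by rw [_root_.zpow_sub, ← h1, ← h2, mul_inv_cancel]
          rwa [sub_neg_eq_add] at h4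
        rw [hz.zpow_eq_one_iff_dvd, hcast] at h3
        exact E1 ha hi hi' h3
      · exfalso
        have h3 : z ^ ((2 : ℤ) ^ i' + 2 ^ i) = 1 := by
          have h4 : z ^ ((2 : ℤ) ^ i' - (-2 ^ i)) = 1 := by rw [_root_.zpow_sub, ← h1, ← h2, mul_inv_cancel]
          rwa [sub_neg_eq_add] at h4
        rw [hz.zpow_eq_one_iff_dvd, hcast] at h3
        exact E1 ha hi' hi h3
      · have h3 : z ^ ((2 : ℤ) ^ i - 2 ^ i') = 1 := by
          have h4 : z ^ ((-2 : ℤ) ^ 1 * 0 + (-2 ^ i' - (-2 ^ i))) = 1 := by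
            rw [mul_zero, zero_add, _root_.zpow_sub, ← h1, ← h2, mul_inv_cancel]
          have h5 : ((-2 : ℤ) ^ 1 * 0 + (-2 ^ i' - (-2 ^ i))) = 2 ^ i - 2 ^ i' := by ring
          rwa [h5] at h4
        rw [hz.zpow_eq_one_iff_dvd, hcast] at h3
        exact (E2 ha hi hi' h3).symm
    have h2 : ∑ b ∈ Finset.range (2 ^ a), s.count b * mf b (z : k) (ν : k) ≤ s.count (2 ^ i) * mf (2 ^ i) (z : k) (ν : k) := by
      by_cases hm : 2 ^ i ∈ Finset.range (2 ^ a)
      · rw [Finset.sum_eq_single_of_mem _ hm fun c _ hc => hother c hc]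
      · rw [Finset.sum_eq_zero]
        · exact Nat.zero_le _
        · intro c hc
          exact hother c fun h => hm (h ▸ hc)
    refine h2.trans ?_
    calc s.count (2 ^ i) * mf (2 ^ i) (z : k) (ν : k) ≤ 1 * 1 := Nat.mul_le_mul (hl.one i hi) (mf_le_one ha hz hi ν)
      _ = 1 := one_mul 1
  · push Not at hex
    rw [Finset.sum_eq_zero fun b _ => hex b]
    exact Nat.zero_le _

end mult

/-! ### the contradiction -/

variable {F : Type u} [Field F] [Fintype F] {K : Type w} [Field K] [Fintype K] [DecidableEq K]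
  [DecidableEq (AlgebraicClosure F)]

/-- **the pattern `9 [] + 9 [1]`** -/
theorem exc_false {a j : ℕ} [Fact (Nat.Prime 2)] [CharP F 2] [CharP K 2] [CharP (AlgebraicClosure F) 2]
    (hK : Fintype.card K = 2 ^ a) (hj : 1 ≤ j) (ha : a = j * 9)
    (κ : K →+* AlgebraicClosure F)
    {φ : ProjectiveSpecialLinearGroup (Fin 2) K →* ↥(Zgrp (AlgebraicClosure F))}
    (hw : (wx : Multiset (List ℕ)) =
      (cf (Sy.{u, u, w} κ 2) (Rr (V (AlgebraicClosure F)) (φ.comp pq))).map (tyl 2))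
    (hsh : (cf (Sy.{u, u, w} κ 2) (Rr (V (AlgebraicClosure F)) (φ.comp pq))).map (cyc 2 a)^[j] =
      cf (Sy.{u, u, w} κ 2) (Rr (V (AlgebraicClosure F)) (φ.comp pq))) : False := by
  classical
  set k := AlgebraicClosure F with hk
  set ρ := Rr (V k) (φ.comp pq) with hρ
  set s := cf (Sy.{u, u, w} κ 2) ρ with hs
  have H := isMult_cf κ 2 hK ρ
  have ha9 : 9 ≤ a := by omega
  obtain ⟨l, hl⟩ := labels hj ha (cf_lt.{u, u, w} κ 2 hK ρ) hw hsh
  have hla : l < a := by have := hl.high; omega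
  -- the element of the torus
  obtain ⟨lam, hlam⟩ := IsCyclic.exists_generator (α := Kˣ)
  have h0 : (κ lam : k) ≠ 0 := fun h => lam.ne_zero (κ.injective (by rw [h, map_zero]))
  let z : kˣ := Units.mk0 (κ lam) h0
  have hzv : (z : k) = κ lam := rfl
  have hprim : IsPrimitiveRoot (κ lam : k) (2 ^ a - 1) := by
    rw [← hK]
    exact primitive κ κ.injective hlam
  have hz : IsPrimitiveRoot z (2 ^ a - 1) := by
    rw [← IsPrimitiveRoot.coe_units_iff]
    exact hprim
  have h2a : 2 ≤ 2 ^ a := two_le_q 2 hK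
  have hN0 : 2 ^ a - 1 ≠ 0 := by omega
  have hNk : ((2 ^ a - 1 : ℕ) : k) ≠ 0 := by
    rw [Nat.cast_sub (by omega), q_cast (k := k) 2 hK, Nat.cast_one, zero_sub]
    exact neg_ne_zero.2 one_ne_zero
  have hcop : (2 ^ a - 1).Coprime 2 := by
    rw [Nat.coprime_comm, Nat.prime_two.coprime_iff_not_dvd]
    intro h
    obtain ⟨a', rfl⟩ : ∃ a', a = a' + 1 := ⟨a - 1, by omega⟩
    rw [pow_succ] at h h2a
    omega
  have hx : (φ (pq (Cfsg.Agent.H943.SL2Rel.h lam))) ^ (2 ^ a - 1) = 1 := by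
    rw [← map_pow, ← map_pow]
    have h1 : (Cfsg.Agent.H943.SL2Rel.h lam) ^ (2 ^ a - 1) = 1 :=
      pow_eq_one_of_isSS κ (Cfsg.Agent.H179.SLC.isSS_h κ lam) hprim.pow_eq_one
    rw [h1, map_one, map_one]
  obtain ⟨g, d, hd, -, hdN, htri⟩ := Cfsg.Agent.H944.E6T.exists_diag 2
    (Cfsg.Agent.H944.RootVals.hAlg_closure 2 F) hN0 hcop hx
  have hcard : ∀ ν : kˣ, ν ^ (2 ^ a - 1) = 1 → (Finset.univ.filter fun i => d i = ν).card =
      ∑ b ∈ Finset.range (2 ^ a), s.count b * mf b (z : k) (ν : k) := by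
    intro ν hν
    refine Eq.trans ?_ (H.eigen _ (κ lam) _ (Cfsg.Agent.H179.SLC.isSS_h κ lam) hprim.pow_eq_one hNk (ν : k)
      (by rw [← Units.val_pow_eq_pow_val, hν, Units.val_one]))
    rw [eig_eq]
    have h1 : ev (ρ (Cfsg.Agent.H943.SL2Rel.h lam)) (ν : k) =
        ev (V k (g * φ (pq (Cfsg.Agent.H943.SL2Rel.h lam)) * g⁻¹)) (ν : k) :=
      (Cfsg.Agent.H944.E6T.ev_conj (V k) g _ _).symm
    rw [h1, Cfsg.Agent.H944.E6T.ev_diag (fun i => (d i : k)) (ν : k) (T := V k _) (by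
      rw [← hd]
      rfl)]
    congr 1
    refine Finset.filter_congr fun i _ => ?_
    rw [Units.ext_iff]
  -- the values
  have hval : ∀ i, d i = 1 ∨ ∃ e < a, d i = z ^ (2 ^ e : ℤ) ∨ d i = z ^ (-2 ^ e : ℤ) := by
    intro i
    have h1 := hcard (d i) (hdN i)
    have h2 : (Finset.univ.filter fun i' => d i' = d i).card ≠ 0 := by
      rw [Finset.card_ne_zero]
      exact ⟨i, Finset.mem_filter.2 ⟨Finset.mem_univ _, rfl⟩⟩
    rw [h1] at h2
    obtain ⟨b, -, hb⟩ := Finset.exists_ne_zero_of_sum_ne_zero h2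
    rw [mul_ne_zero_iff, Multiset.count_ne_zero] at hb
    rcases hl.cases b hb.1 with rfl | ⟨e, he, rfl⟩
    · exact Or.inl (mf_zero z hb.2)
    · exact Or.inr ⟨e, he, mf_cases z e hb.2⟩
  have huniq : ∀ i i', d i = d i' → d i ≠ 1 → i = i' := by
    intro i i' h1 h2
    have h3 := sum_le_one ha9 hz hl h2
    rw [← hcard _ (hdN i), Finset.card_le_one] at h3
    exact h3 i (Finset.mem_filter.2 ⟨Finset.mem_univ _, rfl⟩) i' (Finset.mem_filter.2 ⟨Finset.mem_univ _, h1.symm⟩)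
  -- the weight
  have hzN : z ^ (2 ^ a - 1) = 1 := hz.pow_eq_one
  obtain ⟨i0, hi0⟩ : ∃ i, d i = z ^ (2 ^ l : ℤ) := by
    have h1 := hcard (z ^ (2 ^ l : ℤ)) (by rw [← zpow_natCast, ← _root_.zpow_mul, mul_comm, _root_.zpow_mul, zpow_natCast, hzN, _root_.one_zpow])
    have h2 : (Finset.univ.filter fun i => d i = z ^ (2 ^ l : ℤ)).card ≠ 0 := by
      rw [h1]
      have h3 : s.count (2 ^ l) * mf (2 ^ l) (z : k) ((z ^ (2 ^ l : ℤ) : kˣ) : k) ≠ 0 :=
        mul_ne_zero (Multiset.count_ne_zero.2 hl.mem) (mf_pos z l)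
      have h4 := Finset.single_le_sum (s := Finset.range (2 ^ a))
        (f := fun b => s.count b * mf b (z : k) ((z ^ (2 ^ l : ℤ) : kˣ) : k)) (fun _ _ => Nat.zero_le _)
        (Finset.mem_range.2 (Nat.pow_lt_pow_right (by norm_num) hla))
      exact fun h5 => h3 (Nat.le_zero.1 (h5 ▸ h4))
    rw [Finset.card_ne_zero] at h2
    obtain ⟨i, hi⟩ := h2
    exact ⟨i, (Finset.mem_filter.1 hi).2⟩
  have hcast : ((2 ^ a - 1 : ℕ) : ℤ) = 2 ^ a - 1 := by
    rw [Nat.cast_sub Nat.one_le_two_pow]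
    push_cast
    rfl
  have hdvd : ∀ e : ℤ, z ^ e = 1 → (2 ^ a - 1 : ℤ) ∣ e := by
    intro e he
    rw [hz.zpow_eq_one_iff_dvd, hcast] at he
    exact he
  have hi01 : d i0 ≠ 1 := by
    rw [hi0]
    intro h
    have h1 := hdvd _ h
    exact E1 ha9 hla hla (dvd_add h1 h1)
  -- the ten neighbours
  have key : ∀ i, rel i0 i = 2 → d i = z ^ (-2 ^ l : ℤ) ∨ d (th i0 i) = z ^ (-2 ^ l : ℤ) := by
    intro i hi
    have h1 := htri i0 i hi
    obtain ⟨f1, f2, f3, f4⟩ := th_facts i0 i hi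
    have hinv : ∀ x y : kˣ, x * 1 * y = 1 → x = z ^ (2 ^ l : ℤ) → y = z ^ (-2 ^ l : ℤ) := by
      intro x y hxy hx'
      rw [mul_one] at hxy
      rw [_root_.zpow_neg, ← hx']
      exact eq_inv_of_mul_eq_one_right hxy
    rcases hval i with h2 | ⟨e, he, h2⟩
    · right
      rw [h2] at h1
      exact hinv _ _ h1 hi0
    · rcases hval (th i0 i) with h3 | ⟨e', he', h3⟩
      · left
        rw [h3, mul_one] at h1
        exact hinv (d i0) (d i) (by rw [mul_one]; exact h1) hi0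
      · exfalso
        rw [hi0] at h1
        have hne : ∀ e < a, z ^ (2 ^ e : ℤ) ≠ 1 := by
          intro e he h
          have h1 := hdvd _ h
          exact E1 ha9 he he (dvd_add h1 h1)
        rcases h2 with h2 | h2 <;> rcases h3 with h3 | h3
        · rw [h2, h3, ← _root_.zpow_add, ← _root_.zpow_add] at h1
          exact E3 ha9 he he' hl.low hl.high (hdvd _ h1)
        · rw [h2, h3, ← _root_.zpow_add, ← _root_.zpow_add] at h1
          have h4 := E4 ha9 he he' hl.low hl.high (by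
            have h5 := hdvd _ h1
            rwa [← sub_eq_add_neg] at h5)
          subst h4
          exact f4 (huniq i i0 (h2.trans hi0.symm) (by rw [h2]; exact hne _ he))
        · rw [h2, h3, ← _root_.zpow_add, ← _root_.zpow_add] at h1
          have h4 := E4 ha9 he' he hl.low hl.high (by
            have h5 := hdvd _ h1
            have h6 : (2 : ℤ) ^ l + -2 ^ e + 2 ^ e' = 2 ^ l + 2 ^ e' - 2 ^ e := by ring
            rwa [h6] at h5)
          subst h4
          exact f3 (huniq (th i0 i) i0 (h3.trans hi0.symm) (by rw [h3]; exact hne _ he'))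
        · rw [h2, h3, ← _root_.zpow_add, ← _root_.zpow_add] at h1
          have h4 := E5 ha9 he he' hl.low hl.high (by
            have h5 := hdvd _ h1
            have h6 : (2 : ℤ) ^ l + -2 ^ e + -2 ^ e' = 2 ^ l - 2 ^ e - 2 ^ e' := by ring
            rwa [h6] at h5)
          subst h4
          refine f2 (huniq (th i0 i) i (h3.trans h2.symm) ?_)
          rw [h3, _root_.zpow_neg, ne_eq, inv_eq_one]
          exact hne _ he
  -- at most two
  have hle : (Finset.univ.filter fun i => rel i0 i = 2).card ≤ 2 := by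
    by_cases hex : ∃ m, d m = z ^ (-2 ^ l : ℤ)
    · obtain ⟨m, hm⟩ := hex
      have hm1 : d m ≠ 1 := by
        rw [hm, _root_.zpow_neg, ne_eq, inv_eq_one, ← hi0]
        exact hi01
      refine (Finset.card_le_card (t := {m, th i0 m}) fun i hi => ?_).trans Finset.card_le_two
      rw [Finset.mem_filter] at hi
      rw [Finset.mem_insert, Finset.mem_singleton]
      rcases key i hi.2 with h | h
      · left
        exact huniq i m (h.trans hm.symm) (by rw [h, ← hm]; exact hm1)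
      · right
        have h1 := huniq (th i0 i) m (h.trans hm.symm) (by rw [h, ← hm]; exact hm1)
        rw [← h1, (th_facts i0 i hi.2).1]
    · rw [Finset.filter_false_of_mem]
      · simp
      · intro i _ hi
        rcases key i hi with h | h
        · exact hex ⟨_, h⟩
        · exact hex ⟨_, h⟩
  have h3 := card_rel i0
  omega

end Cfsg.Agent.R2.H8.NoFix.Exc
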