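import Mathlib
import Cfsg.Agent.R2.H8.NoFix.MS
import Cfsg.Agent.R2.H8.NoFix.Desc
import Cfsg.Agent.R2.GEO.Main

/-!
# S5749, S5750, box NOFIX: the choice of an eigenvector (helper8)

* `IsE f ψ M R χ w` : `w` is a vector fixed by `ψ(A)` and an eigenvector of `M`;
* `exists_E`, `IsE.exists_gen`;
* `Best r f ψ M R χ w D` : the choice with the smallest orbit length; `exists_best`, `Best.sh`, `Best.cr`;
* `Best.finrank_Y`, `exists_form` : the rational form.
-/

set_option autoImplicit false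

namespace Cfsg.Agent.R2.H8.NoFix.Sel

open Cfsg Cfsg.Lie Module Matrix
open Cfsg.Agent.ChevalleyStructure
open Cfsg.Agent.ChevalleyStructure.E6Min.Basic Cfsg.Agent.ChevalleyStructure.E6Min.Adjoint
open Cfsg.Agent.H163.E6
open Cfsg.Agent.H952.F4 (sh cr tf)
open Cfsg.Agent.H952.F4.Jord
open Cfsg.Agent.H65.E6Emb (emb emb_emb ext)
open Cfsg.Agent.R2.H9.E6 Cfsg.Agent.R2.H8.NoFix.Aut Cfsg.Agent.R2.H8.NoFix.MS Cfsg.Agent.R2.H8.NoFix.Desc
open Cfsg.Agent.R2.GEO (Pair)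

universe u v w

/-! ### common eigenvectors -/

theorem exists_common {k : Type*} [Field k] [IsAlgClosed k] {V : Type*} [AddCommGroup V] [Module k V]
    [FiniteDimensional k V] {G : Type*} (θ : G → Module.End k V) (c : ℕ) : ∀ P : Submodule k V, finrank k P = c →
    P ≠ ⊥ → (∀ g, ∀ x ∈ P, θ g x ∈ P) → (∀ g h, ∀ x ∈ P, θ g (θ h x) = θ h (θ g x)) →
    ∃ x ∈ P, x ≠ 0 ∧ ∀ g, ∃ a : k, θ g x = a • x := by
  induction c using Nat.strong_induction_on with
  | _ c ih =>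
    intro P hc hP0 hst hcomm
    by_cases hall : ∀ g, ∃ a : k, ∀ x ∈ P, θ g x = a • x
    · obtain ⟨x, hx, hx0⟩ := Submodule.exists_mem_ne_zero_of_ne_bot hP0
      exact ⟨x, hx, hx0, fun g => (hall g).imp fun a ha => ha x hx⟩
    · push Not at hall
      obtain ⟨g, hg⟩ := hall
      have hnt : Nontrivial P := Submodule.nontrivial_iff_ne_bot.2 hP0
      obtain ⟨a, ha⟩ := Module.End.exists_eigenvalue ((θ g).restrict (hst g))
      obtain ⟨y, hy⟩ := ha.exists_hasEigenvector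
      let Q : Submodule k V := P ⊓ Module.End.eigenspace (θ g) a
      have hyQ : (y : V) ∈ Q := by
        refine Submodule.mem_inf.2 ⟨y.2, Module.End.mem_eigenspace_iff.2 ?_⟩
        have h1 := Module.End.mem_eigenspace_iff.1 hy.1
        exact congrArg Subtype.val h1
      have hQ0 : Q ≠ ⊥ := by
        intro h0
        rw [h0, Submodule.mem_bot] at hyQ
        exact hy.2 (Subtype.ext hyQ)
      have hQP : Q < P := by
        refine lt_of_le_of_ne inf_le_left ?_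
        intro h1
        obtain ⟨x, hx, hxg⟩ := hg a
        apply hxg
        rw [← h1] at hx
        exact Module.End.mem_eigenspace_iff.1 hx.2
      obtain ⟨x, hx, hx0, hxe⟩ := ih (finrank k Q) (by rw [← hc]; exact Submodule.finrank_lt_finrank_of_lt hQP) Q rfl hQ0
        (fun h x hx => Submodule.mem_inf.2 ⟨hst h x hx.1, Module.End.mem_eigenspace_iff.2 (by
          rw [hcomm g h x hx.1, Module.End.mem_eigenspace_iff.1 hx.2, map_smul])⟩)
        (fun h h' x hx => hcomm h h' x hx.1)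
      exact ⟨x, hx.1, hx0, hxe⟩

variable {F : Type u} [Field F] {K : Type v} [Field K] {k : Type w} [Field k] {f : F →+* k}
  {M : Subgroup ↥(Zgrp F)} {ψ : ProjectiveSpecialLinearGroup (Fin 2) K →* ↥(Zgrp F)}
  {R R' : Representation k ↥(Zgrp k) (I27 → k)} {χ χ' : ↥M → k} {w w' : I27 → k}

/-- common eigenvectors of `M` fixed by `ψ(A)` -/
structure IsE (f : F →+* k) (ψ : ProjectiveSpecialLinearGroup (Fin 2) K →* ↥(Zgrp F)) (M : Subgroup ↥(Zgrp F))
    (R : Representation k ↥(Zgrp k) (I27 → k)) (χ : ↥M → k) (w : I27 → k) : Prop where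
  ne : w ≠ 0
  fix : w ∈ Fx f ψ R
  eig : ∀ m : ↥M, T f R m w = χ m • w

theorem rho_t (hR : R = V k ∨ R = V' k) {t : k →+* k} (ht : ∀ x, t (f x) = f x) (g : ↥(Zgrp F)) (x : I27 → k) :
    T f R g (fun i => t (x i)) = fun i => t (T f R g x i) := by
  have h1 : t.comp f = f := RingHom.ext ht
  rw [T_apply, T_apply, ← rho_emb hR, emb_emb, h1]

theorem map_ne {t : k →+* k} (hw : w ≠ 0) : (fun i => t (w i)) ≠ 0 := by
  intro h
  apply hw
  funext i
  have h1 := congrFun h i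
  rw [Pi.zero_apply] at h1
  exact t.injective (by rw [h1, Pi.zero_apply, map_zero])

theorem map_smul' {t : k →+* k} (c : k) (x : I27 → k) : (fun i => t ((c • x) i)) = t c • fun i => t (x i) := by
  funext i
  rw [Pi.smul_apply, smul_eq_mul, map_mul]
  rfl

theorem IsE.map (h : IsE f ψ M R χ w) (hR : R = V k ∨ R = V' k) {t : k →+* k} (ht : ∀ x, t (f x) = f x) :
    IsE f ψ M R (fun m => t (χ m)) (fun i => t (w i)) where
  ne := map_ne h.ne
  fix := fun g => by rw [rho_t hR ht, mem_Fx.1 h.fix]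
  eig := fun m => by rw [rho_t hR ht, h.eig, map_smul']

theorem T_cr (hP : Pair R R') (g : ↥(Zgrp F)) (x y : I27 → k) : cr (T f R g x) (T f R g y) = T f R' g (cr x y) := by
  rcases hP with ⟨rfl, rfl⟩ | ⟨rfl, rfl⟩
  · exact Act.cr_act _ x y
  · exact Act.cr_act' _ x y

theorem T_sh (hP : Pair R R') (g : ↥(Zgrp F)) (x : I27 → k) : sh (T f R g x) = T f R' g (sh x) := by
  rcases hP with ⟨rfl, rfl⟩ | ⟨rfl, rfl⟩
  · exact Act.sh_act _ x
  · exact Act.sh_act' _ x

theorem T_tf (hP : Pair R R') (g : ↥(Zgrp F)) (x y : I27 → k) : tf (T f R g x) (T f R' g y) = tf x y := by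
  rcases hP with ⟨rfl, rfl⟩ | ⟨rfl, rfl⟩
  · exact Act.tf_act _ x y
  · rw [tf_comm, tf_comm x]
    exact Act.tf_act _ y x

theorem IsE.cr (h : IsE f ψ M R χ w) (h' : IsE f ψ M R χ' w') (hP : Pair R R') (h0 : cr w w' ≠ 0) :
    IsE f ψ M R' (fun m => χ m * χ' m) (cr w w') where
  ne := h0
  fix := fun g => by rw [← T_cr hP, mem_Fx.1 h.fix, mem_Fx.1 h'.fix]
  eig := fun m => by rw [← T_cr hP, h.eig, h'.eig, cr_smul_left, cr_smul_right, smul_smul]

theorem IsE.sh (h : IsE f ψ M R χ w) (hP : Pair R R') (h0 : sh w ≠ 0) : IsE f ψ M R' (fun m => χ m ^ 2) (sh w) where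
  ne := h0
  fix := fun g => by rw [← T_sh hP, mem_Fx.1 h.fix]
  eig := fun m => by rw [← T_sh hP, h.eig, sh_smul]

theorem IsE.ne_zero (h : IsE f ψ M R χ w) (m : ↥M) : χ m ≠ 0 := by
  intro h0
  have h1 := h.eig m
  rw [h0, zero_smul] at h1
  exact h.ne (T_eq_zero h1)

theorem IsE.cube (h : IsE f ψ M R χ w) (hP : Pair R R') (h0 : Cfsg.Agent.H952.F4.sh (Cfsg.Agent.H952.F4.sh w) ≠ 0)
    (m : ↥M) : χ m ^ 3 = 1 := by
  have h2 : Cfsg.Agent.H952.F4.sh (Cfsg.Agent.H952.F4.sh (T f R m w)) =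
      T f R m (Cfsg.Agent.H952.F4.sh (Cfsg.Agent.H952.F4.sh w)) := by
    rw [T_sh hP, T_sh hP.swap]
  rw [h.eig, sh_smul, sh_smul, sh_sh, map_smul, h.eig, smul_smul, smul_smul] at h2
  have h3 : cubicT w • w ≠ 0 := by rwa [← sh_sh]
  have h4 : cubicT w ≠ 0 := fun h4 => h3 (by rw [h4, zero_smul])
  have h5 : ((χ m ^ 2) ^ 2 * cubicT w - cubicT w * χ m) • w = 0 := by rw [sub_smul, h2, sub_self]
  rw [smul_eq_zero, or_iff_left h.ne] at h5
  have h6 : (χ m ^ 3 - 1) * (cubicT w * χ m) = 0 := by linear_combination h5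
  rw [mul_eq_zero, or_iff_left (mul_ne_zero h4 (h.ne_zero m)), sub_eq_zero] at h6
  exact h6

theorem IsE.mul (h : IsE f ψ M R χ w) (m m' : ↥M) : χ (m * m') = χ m * χ m' := by
  have h1 := h.eig (m * m')
  rw [Subgroup.coe_mul, T_mul, h.eig, map_smul, h.eig, smul_smul] at h1
  have h2 : (χ m' * χ m - χ (m * m')) • w = 0 := by rw [sub_smul, h1, sub_self]
  rw [smul_eq_zero, or_iff_left h.ne, sub_eq_zero] at h2
  rw [← h2, mul_comm]

theorem IsE.one (h : IsE f ψ M R χ w) : χ 1 = 1 := by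
  have h1 := h.mul 1 1
  rw [mul_one] at h1
  have h2 := h.ne_zero 1
  have h3 : χ 1 * (χ 1 - 1) = 0 := by linear_combination -h1
  exact sub_eq_zero.1 ((mul_eq_zero.1 h3).resolve_left h2)

theorem IsE.pow (h : IsE f ψ M R χ w) (m : ↥M) (n : ℕ) : χ (m ^ n) = χ m ^ n := by
  induction n with
  | zero => rw [pow_zero, pow_zero, h.one]
  | succ n ih => rw [pow_succ, pow_succ, h.mul, ih]

/-- the group of the values is cyclic -/
theorem IsE.exists_gen [Finite M] (h : IsE f ψ M R χ w) :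
    ∃ (m1 : ↥M) (n : ℕ), 0 < n ∧ IsPrimitiveRoot (χ m1) n ∧ ∀ m, ∃ i : ℕ, χ m = χ m1 ^ i := by
  let X0 : ↥M →* k := { toFun := χ, map_one' := h.one, map_mul' := h.mul }
  let X : ↥M →* kˣ := X0.toHomUnits
  have hX : ∀ m, (X m : k) = χ m := fun m => rfl
  have hfin : Finite X.range := Finite.of_surjective X.rangeRestrict X.rangeRestrict_surjective
  obtain ⟨⟨g, m1, hm1⟩, hg⟩ := IsCyclic.exists_generator (α := X.range)
  refine ⟨m1, orderOf (χ m1), ?_, IsPrimitiveRoot.orderOf _, fun m => ?_⟩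
  · rw [orderOf_pos_iff, isOfFinOrder_iff_pow_eq_one]
    refine ⟨Nat.card M, Nat.card_pos, ?_⟩
    rw [← h.pow, pow_card_eq_one', h.one]
  · have h1 := hg ⟨X m, m, rfl⟩
    rw [← mem_powers_iff_mem_zpowers] at h1
    obtain ⟨i, hi⟩ := h1
    refine ⟨i, ?_⟩
    have h2 : g ^ i = X m := congrArg Subtype.val hi
    rw [← hX, ← hX, ← h2, ← hm1, Units.val_pow_eq_pow_val]

theorem exists_E [IsAlgClosed k] {ρ : Representation F ↥(Zgrp F) (I27 → F)} (hB : BC ρ R) [Finite F] [Fintype K]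
    {ι : ↥M →* MulAut (ProjectiveSpecialLinearGroup (Fin 2) K)} (hA : Ac M ψ ι) {p j : ℕ}
    (hm0 : ∃ m, ∀ x, fa K (ι m) x = x ^ p ^ j) (hq : ∀ m, ∃ q, ∀ x, fa K (ι m) x = x ^ p ^ (j * q))
    (h0 : Fx f ψ R ≠ ⊥) : ∃ χ w, IsE f ψ M R χ w := by
  obtain ⟨x, hx, hx0, he⟩ := exists_common (fun m : ↥M => (T f R (m : ↥(Zgrp F)) : Module.End k (I27 → k))) _
    (Fx f ψ R) rfl h0 (fun m x hx => hA.Fx_stable m hx) (fun m m' x hx => hA.comm_fix hB hm0 hq m m' hx)
  choose χ hχ using he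
  exact ⟨χ, x, hx0, hx, hχ⟩

/-! ### the best choice -/

/-- `d` is a period of the character -/
def Per (r : ℕ) (χ : ↥M → k) (d : ℕ) : Prop := 1 ≤ d ∧ ∀ m, χ m ^ r ^ d = χ m

structure Best (r : ℕ) (f : F →+* k) (ψ : ProjectiveSpecialLinearGroup (Fin 2) K →* ↥(Zgrp F))
    (M : Subgroup ↥(Zgrp F)) (R : Representation k ↥(Zgrp k) (I27 → k)) (χ : ↥M → k) (w : I27 → k) (D : ℕ) :
    Prop where
  rep : R = V k ∨ R = V' k
  e : IsE f ψ M R χ w
  per : Per r χ D
  fixed : ∀ i, w i ^ r ^ D = w i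
  min : ∀ R' : Representation k ↥(Zgrp k) (I27 → k), (R' = V k ∨ R' = V' k) → ∀ (χ' : ↥M → k) (w' : I27 → k) (d : ℕ),
    IsE f ψ M R' χ' w' → Per r χ' d → D ≤ d

variable {r D : ℕ}

/-- the powers of the Frobenius map -/
theorem pow_hom {s : k →+* k} (hs : ∀ x, s x = x ^ r) (i : ℕ) : ∀ x, (s ^ i) x = x ^ r ^ i := by
  induction i with
  | zero =>
    intro x
    rw [pow_zero, pow_zero, pow_one]
    rfl
  | succ i ih =>
    intro x
    rw [pow_succ, RingHom.mul_def, RingHom.comp_apply, hs, ih, ← pow_mul, ← pow_succ']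

theorem hom_fix [Fintype F] {s : k →+* k} (hs : ∀ x, s x = x ^ Fintype.card F) (i : ℕ) (x : F) : (s ^ i) (f x) = f x := by
  rw [pow_hom hs, ← map_pow, FiniteField.pow_card_pow]

theorem exists_best [Fintype F] {s : k →+* k} (hs : ∀ x, s x = x ^ Fintype.card F) (hR : R = V k ∨ R = V' k)
    (h : IsE f ψ M R χ w) {d : ℕ} (hd : Per (Fintype.card F) χ d) :
    ∃ R χ w D, Best (Fintype.card F) f ψ M R χ w D := by
  classical
  have hex : ∃ d, ∃ R : Representation k ↥(Zgrp k) (I27 → k), (R = V k ∨ R = V' k) ∧ ∃ (χ : ↥M → k) (w : I27 → k),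
      IsE f ψ M R χ w ∧ Per (Fintype.card F) χ d := ⟨d, R, hR, χ, w, h, hd⟩
  obtain ⟨R, hR, χ, w, h, hD⟩ := Nat.find_spec hex
  set D := Nat.find hex with hDdef
  -- the eigenspace
  let Y : Submodule k (I27 → k) :=
    { carrier := {y | y ∈ Fx f ψ R ∧ ∀ m : ↥M, T f R m y = χ m • y}
      add_mem' := fun {x y} hx hy => ⟨add_mem hx.1 hy.1, fun m => by rw [map_add, hx.2, hy.2, smul_add]⟩
      zero_mem' := ⟨zero_mem _, fun m => by rw [map_zero, smul_zero]⟩
      smul_mem' := fun c x hx => ⟨Submodule.smul_mem _ _ hx.1, fun m => by rw [map_smul, hx.2, smul_comm]⟩ }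
  have hY0 : Y ≠ ⊥ := by
    intro h0
    have h1 : w ∈ Y := ⟨h.fix, h.eig⟩
    rw [h0, Submodule.mem_bot] at h1
    exact h.ne h1
  obtain ⟨y, hy, hy0, hyf⟩ := exists_fixed (t := s ^ D) (Y := Y) (fun y hy => by
    refine ⟨fun g => ?_, fun m => ?_⟩
    · rw [rho_t hR (hom_fix hs D), mem_Fx.1 hy.1]
    · rw [rho_t hR (hom_fix hs D), hy.2, map_smul', pow_hom hs, hD.2]) hY0
  refine ⟨R, χ, y, D, hR, ⟨hy0, hy.1, hy.2⟩, hD, fun i => ?_, ?_⟩
  · rw [← pow_hom hs]
    exact hyf i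
  · intro R' hR' χ' w' d' h' hd'
    exact Nat.find_min' hex ⟨R', hR', χ', w', h', hd'⟩

theorem Best.sh [Fintype F] {s : k →+* k} (hs : ∀ x, s x = x ^ Fintype.card F)
    (h : Best (Fintype.card F) f ψ M R χ w D) (hP : Pair R R') (h0 : Cfsg.Agent.H952.F4.sh w ≠ 0) :
    Best (Fintype.card F) f ψ M R' (fun m => χ m ^ 2) (Cfsg.Agent.H952.F4.sh w) D where
  rep := by
    rcases hP with ⟨-, h⟩ | ⟨-, h⟩
    · exact Or.inr h
    · exact Or.inl h
  e := h.e.sh hP h0
  per := ⟨h.per.1, fun m => by rw [← pow_mul, mul_comm, pow_mul, h.per.2]⟩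
  fixed := fun i => by
    have h1 := Cfsg.Agent.H65.E6Emb.sh_map (f := s ^ D) w
    have h2 : (fun i => (s ^ D) (w i)) = w := by
      funext i
      rw [pow_hom hs, h.fixed]
    rw [h2] at h1
    rw [← pow_hom hs, ← congrFun h1 i]
  min := h.min

theorem Best.pos (h : Best r f ψ M R χ w D) : 1 ≤ D := h.per.1

/-- the conjugates -/
def wi (r : ℕ) (w : I27 → k) (i : ℕ) : I27 → k := fun l => w l ^ r ^ i

theorem Best.wi [Fintype F] {s : k →+* k} (hs : ∀ x, s x = x ^ Fintype.card F)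
    (h : Best (Fintype.card F) f ψ M R χ w D) (i : ℕ) :
    IsE f ψ M R (fun m => χ m ^ Fintype.card F ^ i) (wi (Fintype.card F) w i) := by
  have h1 := h.e.map h.rep (hom_fix hs i)
  simp only [pow_hom hs] at h1
  exact h1

theorem Best.cr [Fintype F] {s : k →+* k} (hs : ∀ x, s x = x ^ Fintype.card F)
    (h : Best (Fintype.card F) f ψ M R χ w D) (hP : Pair R R') (i : ℕ)
    (h0 : Cfsg.Agent.H952.F4.cr w (Sel.wi (Fintype.card F) w i) ≠ 0) :
    Best (Fintype.card F) f ψ M R' (fun m => χ m * χ m ^ Fintype.card F ^ i)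
      (Cfsg.Agent.H952.F4.cr w (Sel.wi (Fintype.card F) w i)) D where
  rep := by
    rcases hP with ⟨-, h⟩ | ⟨-, h⟩
    · exact Or.inr h
    · exact Or.inl h
  e := h.e.cr (h.wi hs i) hP h0
  per := ⟨h.per.1, fun m => by
    rw [mul_pow, h.per.2, ← pow_mul, mul_comm (Fintype.card F ^ i), pow_mul, h.per.2]⟩
  fixed := fun l => by
    have h1 := Cfsg.Agent.H65.E6Emb.cr_map (f := s ^ D) w (Sel.wi (Fintype.card F) w i)
    have h2 : (fun i => (s ^ D) (w i)) = w := by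
      funext i
      rw [pow_hom hs, h.fixed]
    have h3 : (fun l => (s ^ D) (Sel.wi (Fintype.card F) w i l)) = Sel.wi (Fintype.card F) w i := by
      funext l
      rw [pow_hom hs]
      show (w l ^ _ ^ i) ^ _ ^ D = w l ^ _ ^ i
      rw [← pow_mul, mul_comm, pow_mul, h.fixed]
    rw [h2, h3] at h1
    rw [← pow_hom hs, ← congrFun h1 l]
  min := h.min

/-! ### the span of the conjugates -/

/-- the span of the conjugates -/
def Y (r : ℕ) (w : I27 → k) (D : ℕ) : Submodule k (I27 → k) := Submodule.span k (Set.range fun i : Fin D => wi r w i)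

theorem wi_mem {i : ℕ} (hi : i < D) : wi r w i ∈ Y r w D := Submodule.subset_span ⟨⟨i, hi⟩, rfl⟩

theorem Best.Y_frob {s : k →+* k} (hs : ∀ x, s x = x ^ r) (h : Best r f ψ M R χ w D) :
    ∀ y ∈ Y r w D, (fun i => s (y i)) ∈ Y r w D := by
  intro y hy
  unfold Y at hy
  induction hy using Submodule.span_induction with
  | mem y hy =>
    obtain ⟨i, rfl⟩ := hy
    have h1 : (fun l => s (Sel.wi r w i l)) = Sel.wi r w (i + 1) := by
      funext l
      rw [hs]
      show (w l ^ r ^ (i : ℕ)) ^ r = w l ^ r ^ ((i : ℕ) + 1)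
      rw [← pow_mul, ← pow_succ]
    show (fun l => s (Sel.wi r w i l)) ∈ _
    rw [h1]
    rcases Nat.lt_or_ge ((i : ℕ) + 1) D with h2 | h2
    · exact wi_mem h2
    · have h3 : (i : ℕ) + 1 = D := le_antisymm i.2 h2
      have h4 : Sel.wi r w ((i : ℕ) + 1) = Sel.wi r w 0 := by
        funext l
        show w l ^ r ^ ((i : ℕ) + 1) = w l ^ r ^ 0
        rw [h3, h.fixed, pow_zero, pow_one]
      rw [h4]
      exact wi_mem h.pos
  | zero =>
    have h1 : (fun i => s ((0 : I27 → k) i)) = 0 := by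
      funext i
      rw [Pi.zero_apply, map_zero]
    rw [h1]
    exact Submodule.zero_mem _
  | add a b _ _ ha hb =>
    have h1 : (fun i => s ((a + b) i)) = (fun i => s (a i)) + fun i => s (b i) := by
      funext i
      rw [Pi.add_apply, map_add]
      rfl
    rw [h1]
    exact Submodule.add_mem _ ha hb
  | smul c a _ ha =>
    rw [map_smul']
    exact Submodule.smul_mem _ _ ha

theorem Best.Y_le [Fintype F] {s : k →+* k} (hs : ∀ x, s x = x ^ Fintype.card F)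
    (h : Best (Fintype.card F) f ψ M R χ w D) : Y (Fintype.card F) w D ≤ Fx f ψ R := by
  unfold Y
  rw [Submodule.span_le]
  rintro _ ⟨i, rfl⟩
  exact (h.wi hs i).fix

theorem Best.Y_stable [Fintype F] {s : k →+* k} (hs : ∀ x, s x = x ^ Fintype.card F)
    (h : Best (Fintype.card F) f ψ M R χ w D) (m : ↥M) {y : I27 → k} (hy : y ∈ Y (Fintype.card F) w D) :
    T f R m y ∈ Y (Fintype.card F) w D := by
  unfold Y at hy
  induction hy using Submodule.span_induction with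
  | mem y hy =>
    obtain ⟨i, rfl⟩ := hy
    show T f R m (Sel.wi _ w i) ∈ _
    rw [(h.wi hs i).eig]
    exact Submodule.smul_mem _ _ (wi_mem i.2)
  | zero => rw [map_zero]; exact Submodule.zero_mem _
  | add a b _ _ ha hb => rw [map_add]; exact Submodule.add_mem _ ha hb
  | smul c a _ ha => rw [map_smul]; exact Submodule.smul_mem _ _ ha

/-- the periods in terms of a generator -/
theorem per_iff {m1 : ↥M} (hg : ∀ m, ∃ i : ℕ, χ m = χ m1 ^ i) {d : ℕ} : Per r χ d ↔ 1 ≤ d ∧ χ m1 ^ r ^ d = χ m1 := by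
  constructor
  · intro h
    exact ⟨h.1, h.2 m1⟩
  · rintro ⟨h1, h2⟩
    refine ⟨h1, fun m => ?_⟩
    obtain ⟨i, hi⟩ := hg m
    rw [hi, ← pow_mul, mul_comm, pow_mul, h2]

theorem Best.inj {s : k →+* k} (hs : ∀ x, s x = x ^ r) (h : Best r f ψ M R χ w D) {m1 : ↥M}
    (hg : ∀ m, ∃ i : ℕ, χ m = χ m1 ^ i) : Function.Injective fun i : Fin D => χ m1 ^ r ^ (i : ℕ) := by
  have key : ∀ i j : Fin D, (i : ℕ) < j → χ m1 ^ r ^ (i : ℕ) ≠ χ m1 ^ r ^ (j : ℕ) := by
    intro i j hij he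
    have h1 : (s ^ (i : ℕ)) (χ m1) = (s ^ (i : ℕ)) (χ m1 ^ r ^ ((j : ℕ) - i)) := by
      rw [pow_hom hs, pow_hom hs, ← pow_mul, ← pow_add, Nat.sub_add_cancel hij.le]
      exact he
    have h2 := (s ^ (i : ℕ)).injective h1
    have h3 := h.min R h.rep χ w ((j : ℕ) - i) h.e ((per_iff hg).2 ⟨by omega, h2.symm⟩)
    have h4 := j.2
    omega
  intro i j he
  rcases lt_trichotomy (i : ℕ) j with h1 | h1 | h1
  · exact absurd he (key i j h1)
  · exact Fin.ext h1
  · exact absurd he.symm (key j i h1)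

theorem Best.finrank_Y [Fintype F] [Finite M] {s : k →+* k} (hs : ∀ x, s x = x ^ Fintype.card F)
    (h : Best (Fintype.card F) f ψ M R χ w D) : finrank k ↥(Y (Fintype.card F) w D) = D := by
  obtain ⟨m1, n, hn, hp, hg⟩ := h.e.exists_gen
  have h1 : LinearIndependent k (fun i : Fin D => Sel.wi (Fintype.card F) w i) :=
    Module.End.eigenvectors_linearIndependent' (T f R m1) (fun i : Fin D => χ m1 ^ Fintype.card F ^ (i : ℕ))
      (h.inj hs hg) _ (fun i => ⟨Module.End.mem_eigenspace_iff.2 ((h.wi hs i).eig m1), (h.wi hs i).ne⟩)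
  have h2 := finrank_span_eq_card h1
  rw [Fintype.card_fin] at h2
  exact h2

/-- **the rational form** -/
theorem exists_form [Fintype F] {s : k →+* k} (hs : ∀ x, s x = x ^ Fintype.card F)
    {ρ : Representation F ↥(Zgrp F) (I27 → F)} (hB : BC ρ R) {X : Submodule k (I27 → k)}
    (h1 : ∀ y ∈ X, (fun i => s (y i)) ∈ X) (h2 : ∀ m : ↥M, ∀ y ∈ X, T f R m y ∈ X) :
    ∃ W : Submodule F (I27 → F), ext f W = X ∧ finrank F ↥W = finrank k ↥X ∧ ∀ g ∈ M, ∀ x ∈ W, ρ g x ∈ W := by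
  refine ⟨rat f X, ext_rat f hs h1, finrank_rat f hs h1, fun g hg x hx => ?_⟩
  rw [mem_rat] at hx ⊢
  rw [← hB.emb f g x]
  exact h2 ⟨g, hg⟩ _ hx

end Cfsg.Agent.R2.H8.NoFix.Sel
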