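import Mathlib
import Cfsg.Agent.R2.H8.NoFix.Sel
import Cfsg.Agent.R2.H8.NoFix.Three
import Cfsg.Agent.R2.H8.NoFix.Exc

/-!
# S5749, S5750, box NOFIX: no fixed vectors (helper8)

`no_fix` : in the configuration `Cfg`, `A = PSL₂(p^a)` has no non-zero fixed vectors on the two 27-dimensional modules.
-/

set_option autoImplicit false
set_option linter.unusedSectionVars false
set_option maxHeartbeats 400000

namespace Cfsg.Agent.R2.H8.NoFix.Main

open Cfsg Cfsg.Lie Module Matrix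
open Cfsg.Agent.ChevalleyStructure
open Cfsg.Agent.ChevalleyStructure.E6Min.Basic Cfsg.Agent.ChevalleyStructure.E6Min.Adjoint
open Cfsg.Agent.H163.E6 Cfsg.Agent.H163.E6.Tw Cfsg.Agent.H944.E6Tw
open Cfsg.Agent.H952.F4 (sh cr tf)
open Cfsg.Agent.H952.F4.Jord
open Cfsg.Agent.H65.E6Emb (emb emb_injective ext mem_ext_of_mem)
open Cfsg.Agent.R2.SL2 Cfsg.Agent.R2.H28.SL2
open Cfsg.Agent.H199.PslAut
open Cfsg.Agent.ClassicalGeometry.AutPSL.Auto (cj fld)
open Cfsg.Agent.R2.H9.E6 Cfsg.Agent.R2.H8.NoFix.Aut Cfsg.Agent.R2.H8.NoFix.MS Cfsg.Agent.R2.H8.NoFix.Desc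
open Cfsg.Agent.R2.H8.NoFix.Sel Cfsg.Agent.R2.H8.NoFix.Two Cfsg.Agent.R2.H8.NoFix.Pat Cfsg.Agent.R2.H8.NoFix.Num
open Cfsg.Agent.R2.H8.NoFix.Rep Cfsg.Agent.R2.H8.NoFix.Shift
open Cfsg.Agent.R2.GEO (Pair)

universe u v w

/-! ### the order of the group of field automorphisms -/

variable {F : Type u} [Field F] [Fintype F] {K : Type v} [Field K] [Fintype K]
  {M : Subgroup ↥(Zgrp F)} {ψ : ProjectiveSpecialLinearGroup (Fin 2) K →* ↥(Zgrp F)}
  {ι : ↥M →* MulAut (ProjectiveSpecialLinearGroup (Fin 2) K)}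

/-- the operator of an element as a linear automorphism -/
noncomputable def Te {k : Type w} [Field k] (f : F →+* k) (R : Representation k ↥(Zgrp k) (I27 → k)) (g : ↥(Zgrp F)) :
    (I27 → k) ≃ₗ[k] (I27 → k) :=
  LinearEquiv.ofLinearMap (T f R g) (T f R g⁻¹)
    (by
      refine LinearMap.ext fun v => ?_
      have h1 := T_inv (f := f) (R := R) g⁻¹ v
      rw [inv_inv] at h1
      exact h1)
    (by
      refine LinearMap.ext fun v => ?_
      exact T_inv (f := f) (R := R) g v)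

theorem Te_apply {k : Type w} [Field k] (f : F →+* k) (R : Representation k ↥(Zgrp k) (I27 → k)) (g : ↥(Zgrp F))
    (x : I27 → k) : Te f R g x = T f R g x := rfl

theorem coe_count' (w : List (List ℕ)) (t : List ℕ) : Multiset.count t (w : Multiset (List ℕ)) = w.count t := by
  rw [Multiset.coe_count]
  congr 1
  exact lawful_beq_subsingleton _ _

/-- the divisibility of the multiplicities in the composition pattern, and the number of trivial factors -/
theorem pat_facts {p a j n : ℕ} [Fact p.Prime] [CharP F p] [CharP K p] (hK : Fintype.card K = p ^ a)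
    (hA : Ac M ψ ι) (hinj : Function.Injective ψ) (hj1 : 1 ≤ j) (hn : a = j * n) (hm0 : ∃ m, ∀ x, fa K (ι m) x = x ^ p ^ j)
    {R : Representation (AlgebraicClosure F) ↥(Zgrp (AlgebraicClosure F)) (I27 → AlgebraicClosure F)}
    (hR : R = V (AlgebraicClosure F) ∨ R = V' (AlgebraicClosure F)) {D : ℕ} (hD1 : 1 ≤ D)
    (hD : D ≤ finrank (AlgebraicClosure F) (Fx (algebraMap F (AlgebraicClosure F)) ψ R)) {N : ℕ}
    (hN : (p = 2 ∧ N = n) ∨ (p ≠ 2 ∧ N = Nat.lcm 2 n)) :
    N ∣ 8 ∨ N ∣ 6 ∨ (N ∣ 12 ∧ D ≤ 3) ∨ (N ∣ 9 ∧ D ≤ 3) := by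
  classical
  set k := AlgebraicClosure F with hk
  set f : F →+* k := algebraMap F k with hf
  have hck : CharP k p := charP_of_injective_ringHom f.injective p
  obtain ⟨κ⟩ : Nonempty (K →+* k) := by
    let _ : Algebra (ZMod p) K := ZMod.algebra K p
    let _ : Algebra (ZMod p) k := ZMod.algebra k p
    have : Algebra.IsAlgebraic (ZMod p) K := inferInstance
    exact ⟨(IsAlgClosed.lift (R := ZMod p) (S := K) (M := k)).toRingHom⟩
  let φ : ProjectiveSpecialLinearGroup (Fin 2) K →* ↥(Zgrp k) := (emb f).comp ψ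
  have hφ : Function.Injective φ := (emb_injective f).comp hinj
  obtain ⟨w, hw, hwe⟩ := exists_pat.{u, v} hK κ hφ
  set s := cf (Sy.{u, u, v} κ p) (Rr (V k) (φ.comp pq)) with hs
  -- the shift
  obtain ⟨m0, hm0⟩ := hm0
  obtain ⟨C, hC⟩ := fa_spec (ι m0)
  have hT : ∀ g v, Te f (V k) m0 (Rr (V k) (φ.comp pq) g v) =
      Rr (V k) (φ.comp pq) (cj C (fld (fa K (ι m0)) g)) (Te f (V k) m0 v) := by
    intro g v
    rw [Te_apply, Te_apply]
    show T f (V k) m0 (T f (V k) (ψ (pq g)) v) = T f (V k) (ψ (pq (cj C (fld (fa K (ι m0)) g)))) (T f (V k) m0 v)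
    rw [← T_mul, ← T_mul, ← pq_cj hC, hA.conj, inv_mul_cancel_right]
  have hdvd : ∀ t : List ℕ, n ∣ t.length * w.count t := by
    intro t
    have h1 := dvd_count.{u, u, v} κ p hK _ hm0 (Te f (V k) m0) hT hn t
    rw [← hs, ← hwe, coe_count'] at h1
    exact h1
  have hsh : s.map (cyc p a)^[j] = s := cf_shift.{u, u, v} κ p hK _ hm0 (Te f (V k) m0) hT
  -- the fixed vectors
  have hcount : w.count [] = s.count 0 := by
    rw [← coe_count', hwe, Multiset.count_map, Multiset.count_eq_card_filter_eq]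
    congr 1
    refine Multiset.filter_congr fun b _ => ?_
    rw [eq_comm, tyl_eq_nil, eq_comm]
  have hfix : D ≤ w.count [] := by
    rw [hcount]
    refine hD.trans ?_
    have h1 := le_count_zero.{u, u, v} κ p hK (Rr R (φ.comp pq)) (X := Fx f ψ R) (fun g x hx => mem_Fx.1 hx (pq g))
    rwa [cf_dual_eq κ (φ.comp pq) hR] at h1
  have h0 : w.count [] ≠ 0 := by omega
  rcases hw with ⟨hp, hw⟩ | ⟨hp, hw⟩
  · rcases hN with ⟨h1, -⟩ | ⟨-, hN⟩
    · exact absurd h1 hp
    · rcases pat_odd hw h0 hdvd with h1 | h1 | h1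
      · exact Or.inl (hN ▸ Nat.lcm_dvd (by norm_num) h1)
      · exact Or.inr (Or.inl (hN ▸ Nat.lcm_dvd (by norm_num) h1))
      · exact Or.inr (Or.inr (Or.inl ⟨hN ▸ Nat.lcm_dvd (by norm_num) h1.1, by omega⟩))
  · rcases hN with ⟨-, hN⟩ | ⟨h1, -⟩
    · subst hN
      by_cases hx : w = wx
      · have hG : N ∣ 9 := dvd_G (by rw [hx] at hdvd; exact hdvd)
        have hN9 : N ≤ 9 := Nat.le_of_dvd (by norm_num) hG
        have hcases : N = 1 ∨ N = 3 ∨ N = 9 := by
          interval_cases N <;> omega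
        rcases hcases with h1 | h1 | h1
        · exact Or.inl (by rw [h1]; norm_num)
        · exact Or.inr (Or.inl (by rw [h1]; norm_num))
        · exfalso
          subst hp
          rw [hx] at hwe
          rw [h1] at hn
          exact Exc.exc_false hK hj1 hn κ (φ := φ) hwe hsh
      · rcases pat_two hw h0 hx hdvd with h1 | h1 | h1 | h1
        · exact Or.inl h1
        · exact Or.inr (Or.inl h1)
        · exact Or.inr (Or.inr (Or.inl ⟨h1.1, by omega⟩))
        · exact Or.inr (Or.inr (Or.inr ⟨h1.1, by omega⟩))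
    · exact absurd hp h1

/-! ### the order of the character -/

/-- the `N`-th powers -/
theorem pow_facts {k : Type w} [Field k] {f : F →+* k} {p a j n : ℕ} (hK : Fintype.card K = p ^ a)
    (hA : Ac M ψ ι) (hn : a = j * n) (hq : ∀ m, ∃ q, ∀ x, fa K (ι m) x = x ^ p ^ (j * q)) {N : ℕ} (hnN : n ∣ N)
    (hN' : Even N ∨ CharP K 2) {ρ : Representation F ↥(Zgrp F) (I27 → F)}
    {R : Representation k ↥(Zgrp k) (I27 → k)} (hB : BC ρ R) {χ : ↥M → k} {w : I27 → k} (e : IsE f ψ M R χ w) (m : ↥M) :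
    ∃ c : F, c ^ 3 = 1 ∧ χ m ^ N = f c := by
  obtain ⟨q, hq⟩ := hq m
  obtain ⟨z, x, hz, hmz⟩ := hA.exists_pow hK hn hq hnN hN'
  obtain ⟨c, hc, hcz⟩ := hB.scal f hz
  refine ⟨c, hc, ?_⟩
  have h1 := e.eig (m ^ N)
  rw [Subgroup.coe_pow, hmz, T_mul, mem_Fx.1 e.fix, hcz, e.pow] at h1
  have h2 : (χ m ^ N - f c) • w = 0 := by rw [sub_smul, h1, sub_self]
  rw [smul_eq_zero, or_iff_left e.ne, sub_eq_zero] at h2
  exact h2

/-- cube roots of unity -/
theorem cube_one {c : F} (hc : c ^ 3 = 1) (h : Fintype.card F % 3 ≠ 1) : c = 1 := by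
  have h0 : c ≠ 0 := by
    rintro rfl
    rw [zero_pow three_ne_zero] at hc
    exact zero_ne_one hc
  have h1 := FiniteField.pow_card_sub_one_eq_one c h0
  have h2 : 2 ≤ Fintype.card F := Fintype.one_lt_card
  have h3 : Fintype.card F % 3 = 0 ∨ Fintype.card F % 3 = 2 := by omega
  rcases h3 with h3 | h3
  · have h4 : Fintype.card F - 1 = 3 * ((Fintype.card F - 3) / 3) + 2 := by omega
    rw [h4, pow_add, pow_mul, hc, one_pow, one_mul] at h1
    calc c = c ^ 2 * c := by rw [h1, one_mul]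
      _ = c ^ 3 := by ring
      _ = 1 := hc
  · have h4 : Fintype.card F - 1 = 3 * ((Fintype.card F - 2) / 3) + 1 := by omega
    rwa [h4, pow_add, pow_mul, hc, one_pow, one_mul, pow_one] at h1

theorem per_mod {k : Type w} [Field k] {x : k} {n e : ℕ} (hx : IsPrimitiveRoot x n) (hn : 0 < n) (he : 1 ≤ e) :
    x ^ e = x ↔ e % n = 1 % n := by
  have h0 : x ≠ 0 := hx.ne_zero hn.ne'
  obtain ⟨d, rfl⟩ : ∃ d, e = d + 1 := ⟨e - 1, by omega⟩
  have h1 : (d + 1) % n = 1 % n ↔ n ∣ d := by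
    have h2 := Nat.modEq_iff_dvd' (n := n) (show 1 ≤ d + 1 by omega)
    rw [Nat.add_sub_cancel] at h2
    rw [← h2]
    exact eq_comm
  rw [h1, ← hx.pow_eq_one_iff_dvd, pow_succ]
  constructor
  · intro h
    have h3 : (x ^ d - 1) * x = 0 := by linear_combination h
    exact sub_eq_zero.1 ((mul_eq_zero.1 h3).resolve_right h0)
  · intro h
    rw [h, one_mul]

/-! ### the main part -/

section main

variable {p a b : ℕ} {Γ : Subgroup ↥(Zgrp F)}

/-- **the length of the orbit** -/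
theorem best_facts (h : Cfg p a b Γ M ψ) (hA : Ac M ψ ι) {j n : ℕ} (hj1 : 1 ≤ j) (hn : a = j * n)
    (hm0 : ∃ m, ∀ x, fa K (ι m) x = x ^ p ^ j) (hq : ∀ m, ∃ q, ∀ x, fa K (ι m) x = x ^ p ^ (j * q))
    {s : AlgebraicClosure F →+* AlgebraicClosure F} (hs : ∀ x, s x = x ^ Fintype.card F)
    {R : Representation (AlgebraicClosure F) ↥(Zgrp (AlgebraicClosure F)) (I27 → AlgebraicClosure F)}
    {χ : ↥M → AlgebraicClosure F} {w : I27 → AlgebraicClosure F} {D : ℕ}
    (B : Best (Fintype.card F) (algebraMap F (AlgebraicClosure F)) ψ M R χ w D) :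
    D = 3 ∧ n ≠ 1 ∧ Fintype.card F % 3 = 1 ∧ ∃ (m1 : ↥M) (c : ℕ), 9 ∣ c ∧ IsPrimitiveRoot (χ m1) c := by
  have hp : Fact p.Prime := ⟨h.prime⟩
  have hcF := h.charF
  have hcK := h.charK
  have hfM : Finite ↥M := inferInstance
  obtain ⟨m1, c, hc0, hprim, hgen⟩ := B.e.exists_gen
  obtain ⟨ρ, hB⟩ := BC.of_right (F := F) B.rep
  have hck : CharP (AlgebraicClosure F) p :=
    charP_of_injective_ringHom (algebraMap F (AlgebraicClosure F)).injective p
  have hr2 : 2 ≤ Fintype.card F := Fintype.one_lt_card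
  have hr1 : ∀ d, 1 ≤ Fintype.card F ^ d := fun d => Nat.one_le_pow _ _ (by omega)
  -- the exponent
  obtain ⟨N, hN, hnN, hN', h3n⟩ : ∃ N, ((p = 2 ∧ N = n) ∨ (p ≠ 2 ∧ N = Nat.lcm 2 n)) ∧ n ∣ N ∧ (Even N ∨ CharP K 2) ∧
      (3 ∣ N → n ≠ 1) := by
    by_cases h2 : p = 2
    · refine ⟨n, Or.inl ⟨h2, rfl⟩, dvd_rfl, Or.inr (h2 ▸ hcK), ?_⟩
      rintro h3 rfl
      omega
    · refine ⟨Nat.lcm 2 n, Or.inr ⟨h2, rfl⟩, Nat.dvd_lcm_right 2 n, Or.inl ?_, ?_⟩
      · exact even_iff_two_dvd.2 (Nat.dvd_lcm_left 2 n)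
      · rintro h3 rfl
        rw [Nat.lcm_one_right] at h3
        omega
  obtain ⟨d, hd3, hd⟩ := pow_facts h.cardK hA hn hq hnN hN' hB B.e m1
  have h3N : c ∣ 3 * N := by
    rw [← hprim.pow_eq_one_iff_dvd, mul_comm, pow_mul, hd, ← map_pow, hd3, map_one]
  have h1N : Fintype.card F % 3 ≠ 1 → c ∣ N := by
    intro h3
    rw [← hprim.pow_eq_one_iff_dvd, hd, cube_one hd3 h3, map_one]
  have hcop : Nat.Coprime (Fintype.card F) c := by
    obtain ⟨e, -, he⟩ := FiniteField.card F p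
    rw [he]
    apply Nat.Coprime.pow_left
    rw [hp.out.coprime_iff_not_dvd]
    intro hpc
    have : NeZero c := ⟨hc0.ne'⟩
    have h4 := hprim.neZero'
    exact h4.out ((CharP.cast_eq_zero_iff (AlgebraicClosure F) p c).2 hpc)
  have hper : Fintype.card F ^ D % c = 1 % c := (per_mod hprim hc0 (hr1 D)).1 (B.per.2 m1)
  have hmin : ∀ d, 1 ≤ d → Fintype.card F ^ d % c = 1 % c → D ≤ d := fun d hd1 hd =>
    B.min R B.rep χ w d B.e ((per_iff hgen).2 ⟨hd1, (per_mod hprim hc0 (hr1 d)).2 hd⟩)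
  have hfin : D ≤ finrank (AlgebraicClosure F) (Fx (algebraMap F (AlgebraicClosure F)) ψ R) := by
    rw [← B.finrank_Y hs]
    exact Submodule.finrank_mono (B.Y_le hs)
  have hpat := pat_facts h.cardK hA h.set.inj hj1 hn hm0 B.rep B.pos hfin hN
  obtain ⟨hD3, hD3', hD2⟩ := arith hc0 hcop h3N h1N hper B.pos hmin hpat
  obtain ⟨W, -, hW2, hW3⟩ := exists_form (M := M) hs hB (B.Y_frob hs) (fun m y hy => B.Y_stable hs m hy)
  rw [B.finrank_Y hs] at hW2
  have hne1 : D ≠ 1 := by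
    intro hD1
    rw [hD1] at hW2
    exact h.noLine ρ hB.left W hW3 hW2
  have hne2 : D ≠ 2 := by
    intro hD2'
    rcases h.fam with ⟨-, -, h2⟩ | ⟨hF, -⟩
    · rw [hD2'] at hW2
      exact h2 ρ hB.left W hW3 hW2
    · exact hD2 _ hF hD2'
  have hD1 := B.pos
  have hDe : D = 3 := by omega
  obtain ⟨h9, hr3, h3N'⟩ := hD3' hDe
  exact ⟨hDe, h3n h3N', hr3, m1, c, h9, hprim⟩

theorem ts_span {k : Type w} [Field k] {S : Set (I27 → k)} (h1 : ∀ x ∈ S, sh x = 0)
    (h2 : ∀ x ∈ S, ∀ y ∈ S, cr x y = 0) : ∀ x ∈ Submodule.span k S, sh x = 0 := by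
  have hz : ∀ x : I27 → k, cr (0 : I27 → k) x = 0 := fun x => by
    have := cr_smul_left (0 : k) (0 : I27 → k) x
    rwa [zero_smul, zero_smul] at this
  have h3 : ∀ x ∈ Submodule.span k S, ∀ y ∈ S, cr x y = 0 := by
    intro x hx y hy
    induction hx using Submodule.span_induction with
    | mem x hx => exact h2 x hx y hy
    | zero => exact hz y
    | add a b _ _ ha hb => rw [cr_add_left, ha, hb, add_zero]
    | smul c a _ ha => rw [cr_smul_left, ha, smul_zero]
  have h4 : ∀ x ∈ Submodule.span k S, ∀ y ∈ Submodule.span k S, cr x y = 0 := by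
    intro x hx y hy
    rw [cr_comm]
    induction hy using Submodule.span_induction with
    | mem y hy => rw [cr_comm]; exact h3 x hx y hy
    | zero => exact hz x
    | add a b _ _ ha hb => rw [cr_add_left, ha, hb, add_zero]
    | smul c a _ ha => rw [cr_smul_left, ha, smul_zero]
  intro x hx
  induction hx using Submodule.span_induction with
  | mem x hx => exact h1 x hx
  | zero =>
    have := sh_smul (0 : k) (0 : I27 → k)
    rwa [zero_pow two_ne_zero, zero_smul, zero_smul] at this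
  | add a b ha' hb' ha hb => rw [sh_add, ha, hb, h4 a ha' b hb', add_zero, add_zero]
  | smul c a _ ha => rw [sh_smul, ha, smul_zero]

/-- the conjugates of products -/
theorem wi_cr {k : Type w} [Field k] {s : k →+* k} {r : ℕ} (hs : ∀ x, s x = x ^ r) (i : ℕ) (x y : I27 → k) :
    wi r (cr x y) i = cr (wi r x i) (wi r y i) := by
  have h1 := Cfsg.Agent.H65.E6Emb.cr_map (f := s ^ i) x y
  have h2 : ∀ z : I27 → k, (fun l => (s ^ i) (z l)) = wi r z i := fun z => by
    funext l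
    rw [pow_hom hs]
    rfl
  rw [h2, h2, h2] at h1
  exact h1.symm

theorem wi_sh {k : Type w} [Field k] {s : k →+* k} {r : ℕ} (hs : ∀ x, s x = x ^ r) (i : ℕ) (x : I27 → k) :
    wi r (sh x) i = sh (wi r x i) := by
  have h1 := Cfsg.Agent.H65.E6Emb.sh_map (f := s ^ i) x
  have h2 : ∀ z : I27 → k, (fun l => (s ^ i) (z l)) = wi r z i := fun z => by
    funext l
    rw [pow_hom hs]
    rfl
  rw [h2, h2] at h1
  exact h1.symm

theorem wi_zero' {k : Type w} [Field k] {s : k →+* k} {r : ℕ} (hs : ∀ x, s x = x ^ r) (i : ℕ) :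
    wi r (0 : I27 → k) i = 0 := by
  funext l
  show (0 : k) ^ r ^ i = 0
  rw [← pow_hom hs, map_zero]

theorem wi_wi {k : Type w} [Field k] {r : ℕ} (i j : ℕ) (x : I27 → k) : wi r (wi r x i) j = wi r x (i + j) := by
  funext l
  show (x l ^ r ^ i) ^ r ^ j = x l ^ r ^ (i + j)
  rw [← pow_mul, ← pow_add]

theorem wi_0 {k : Type w} [Field k] {r : ℕ} (x : I27 → k) : wi r x 0 = x := by
  funext l
  show x l ^ r ^ 0 = x l
  rw [pow_zero, pow_one]

/-- the last case -/
theorem ts_false (h : Cfg p a b Γ M ψ) (hA : Ac M ψ ι) {j n : ℕ} (hn : a = j * n) (hn1 : n ≠ 1)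
    (hm0 : ∃ m, ∀ x, fa K (ι m) x = x ^ p ^ j)
    {s : AlgebraicClosure F →+* AlgebraicClosure F} (hs : ∀ x, s x = x ^ Fintype.card F)
    {R : Representation (AlgebraicClosure F) ↥(Zgrp (AlgebraicClosure F)) (I27 → AlgebraicClosure F)}
    {χ : ↥M → AlgebraicClosure F} {w : I27 → AlgebraicClosure F}
    (B : Best (Fintype.card F) (algebraMap F (AlgebraicClosure F)) ψ M R χ w 3) (h1 : sh w = 0)
    (h2 : cr w (wi (Fintype.card F) w 1) = 0) : False := by
  have hp : Fact p.Prime := ⟨h.prime⟩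
  have hcF := h.charF
  have hcK := h.charK
  have hfM : Finite ↥M := inferInstance
  obtain ⟨ρ, hB⟩ := BC.of_right (F := F) B.rep
  set r := Fintype.card F with hr
  have h3 : wi r w 3 = w := funext B.fixed
  have hsh : ∀ i, sh (wi r w i) = 0 := fun i => by rw [← wi_sh hs, h1, wi_zero' hs]
  have hc1 : ∀ i, cr (wi r w i) (wi r w (i + 1)) = 0 := fun i => by
    have h4 := wi_cr hs i w (wi r w 1)
    rw [h2, wi_zero' hs, wi_wi, add_comm 1 i] at h4
    exact h4.symm
  have hc : ∀ i j : Fin 3, cr (wi r w i) (wi r w j) = 0 := by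
    have hself : ∀ i, cr (wi r w i) (wi r w i) = 0 := fun i => by rw [cr_self, hsh, smul_zero]
    have h02 : cr w (wi r w 2) = 0 := by
      have h4 := hc1 2
      rw [show 2 + 1 = 3 from rfl, h3, cr_comm] at h4
      exact h4
    intro i j
    fin_cases i <;> fin_cases j
    · exact hself 0
    · exact hc1 0
    · show cr (wi r w 0) (wi r w 2) = 0
      rw [wi_0]
      exact h02
    · show cr (wi r w 1) (wi r w 0) = 0
      rw [cr_comm]
      exact hc1 0
    · exact hself 1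
    · exact hc1 1
    · show cr (wi r w 2) (wi r w 0) = 0
      rw [cr_comm, wi_0]
      exact h02
    · show cr (wi r w 2) (wi r w 1) = 0
      rw [cr_comm]
      exact hc1 1
    · exact hself 2
  have hts : ∀ y ∈ Y r w 3, sh y = 0 := by
    apply ts_span
    · rintro _ ⟨i, rfl⟩
      exact hsh i
    · rintro _ ⟨i, rfl⟩ _ ⟨j, rfl⟩
      exact hc i j
  obtain ⟨W, hW1, hW2, hW3⟩ := exists_form (M := M) hs hB (B.Y_frob hs) (fun m y hy => B.Y_stable hs m hy)
  rw [B.finrank_Y hs] at hW2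
  refine Three.no_three h.set (fun θ x => ?_) hB.left hW3 hW2 fun x hx => ?_
  · exact two_trivial h.cardK (by have := h.seven; omega) hA hn hn1 hm0 θ x
  · have h4 := hts _ (hW1 ▸ mem_ext_of_mem (f := algebraMap F (AlgebraicClosure F)) hx)
    rw [Cfsg.Agent.H65.E6Emb.sh_map] at h4
    funext i
    have h5 := congrFun h4 i
    apply (algebraMap F (AlgebraicClosure F)).injective
    rw [h5, Pi.zero_apply, Pi.zero_apply, map_zero]

/-- **no fixed vectors** -/
theorem no_fix (h : Cfg p a b Γ M ψ) (ρ : Representation F ↥(Zgrp F) (I27 → F)) (hρ : ρ = V F ∨ ρ = V' F)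
    (v : I27 → F) (hv : ∀ g, ρ (ψ g) v = v) : v = 0 := by
  by_contra hv0
  have hp : Fact p.Prime := ⟨h.prime⟩
  have hcF := h.charF
  have hcK := h.charK
  have hfM : Finite ↥M := inferInstance
  obtain ⟨ι, hA⟩ := exists_ac h.set
  obtain ⟨j, n, hj1, hn, hm0, hq⟩ := exists_j h.ha h.cardK ι
  have hck : CharP (AlgebraicClosure F) p :=
    charP_of_injective_ringHom (algebraMap F (AlgebraicClosure F)).injective p
  obtain ⟨e, -, he⟩ := FiniteField.card F p
  obtain ⟨s, hs⟩ : ∃ s : AlgebraicClosure F →+* AlgebraicClosure F, ∀ x, s x = x ^ Fintype.card F :=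
    ⟨iterateFrobenius (AlgebraicClosure F) p e, fun x => by rw [he]; rfl⟩
  have hr2 : 2 ≤ Fintype.card F := Fintype.one_lt_card
  -- an eigenvector
  obtain ⟨R, hB⟩ := BC.of_left (k := AlgebraicClosure F) hρ
  have hFx : Fx (algebraMap F (AlgebraicClosure F)) ψ R ≠ ⊥ := by
    intro h0
    have h1 : (fun i => algebraMap F (AlgebraicClosure F) (v i)) ∈ Fx (algebraMap F (AlgebraicClosure F)) ψ R := by
      intro g
      rw [hB.emb, hv]
    rw [h0, Submodule.mem_bot] at h1
    apply hv0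
    funext i
    have h2 := congrFun h1 i
    apply (algebraMap F (AlgebraicClosure F)).injective
    rw [h2, Pi.zero_apply, Pi.zero_apply, map_zero]
  obtain ⟨χ0, w0, E0⟩ := exists_E hB hA hm0 hq hFx
  -- a period
  obtain ⟨d, hd⟩ : ∃ d, Per (Fintype.card F) χ0 d := by
    obtain ⟨m1, c, hc0, hprim, hgen⟩ := E0.exists_gen
    have hcop : Nat.Coprime (Fintype.card F) c := by
      rw [he]
      apply Nat.Coprime.pow_left
      rw [hp.out.coprime_iff_not_dvd]
      intro hpc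
      have : NeZero c := ⟨hc0.ne'⟩
      exact (hprim.neZero').out ((CharP.cast_eq_zero_iff (AlgebraicClosure F) p c).2 hpc)
    refine ⟨Nat.totient c, (per_iff hgen).2 ⟨Nat.totient_pos.2 hc0, ?_⟩⟩
    rw [per_mod hprim hc0 (Nat.one_le_pow _ _ (by omega))]
    exact Nat.ModEq.pow_totient hcop
  obtain ⟨R1, χ1, w1, D1, B1⟩ := exists_best hs hB.right E0 hd
  -- the other module
  have other : ∀ R : Representation (AlgebraicClosure F) ↥(Zgrp (AlgebraicClosure F)) (I27 → AlgebraicClosure F),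
      (R = V (AlgebraicClosure F) ∨ R = V' (AlgebraicClosure F)) → ∃ R', Pair R R' := by
    intro R hR
    rcases hR with rfl | rfl
    · exact ⟨_, Or.inl ⟨rfl, rfl⟩⟩
    · exact ⟨_, Or.inr ⟨rfl, rfl⟩⟩
  have facts := fun {R χ w D}
      (B : Best (Fintype.card F) (algebraMap F (AlgebraicClosure F)) ψ M R χ w D) =>
    best_facts h hA hj1 hn hm0 hq hs B
  have hn1 : n ≠ 1 := (facts B1).2.1
  -- white vectors
  obtain ⟨R2, χ2, w2, B2, hw2⟩ : ∃ R χ w, Best (Fintype.card F) (algebraMap F (AlgebraicClosure F)) ψ M R χ w 3 ∧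
      sh w = 0 := by
    obtain ⟨hD, -, -, m1, c, h9, hprim⟩ := facts B1
    subst hD
    by_cases h1 : sh w1 = 0
    · exact ⟨R1, χ1, w1, B1, h1⟩
    · obtain ⟨R', hP⟩ := other R1 B1.rep
      by_cases h2 : sh (sh w1) = 0
      · exact ⟨R', _, _, B1.sh hs hP h1, h2⟩
      · exfalso
        have h3 := B1.e.cube hP h2 m1
        rw [hprim.pow_eq_one_iff_dvd] at h3
        have h4 := Nat.le_of_dvd (by norm_num) (h9.trans h3)
        omega
  obtain ⟨R', hP⟩ := other R2 B2.rep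
  set r := Fintype.card F with hr
  have h3 : wi r w2 3 = w2 := funext B2.fixed
  have hsh : ∀ i, sh (wi r w2 i) = 0 := fun i => by rw [← wi_sh hs, hw2, wi_zero' hs]
  -- the trilinear form vanishes
  have htri : tf (cr w2 (wi r w2 1)) (wi r w2 2) = 0 := by
    obtain ⟨-, -, hr3, m1, c, h9, hprim⟩ := facts B2
    by_contra ht
    have h4 := T_tf hP (f := algebraMap F (AlgebraicClosure F)) (m1 : ↥(Zgrp F)) (wi r w2 2) (cr w2 (wi r w2 1))
    rw [← T_cr hP, B2.e.eig, (B2.wi hs 1).eig, (B2.wi hs 2).eig, cr_smul_left, cr_smul_right, tf_smul_left,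
      tf_smul_right, tf_smul_right, tf_comm (wi r w2 2)] at h4
    have h5 : χ2 m1 ^ (1 + r + r ^ 2) = 1 := by
      have h6 : (χ2 m1 ^ (1 + r + r ^ 2) - 1) * tf (cr w2 (wi r w2 1)) (wi r w2 2) = 0 := by
        rw [pow_add, pow_add, pow_one]
        rw [pow_one] at h4
        linear_combination h4
      exact sub_eq_zero.1 ((mul_eq_zero.1 h6).resolve_right ht)
    rw [hprim.pow_eq_one_iff_dvd] at h5
    have h6 := h9.trans h5
    obtain ⟨q, hq⟩ : ∃ q, r = 3 * q + 1 := ⟨r / 3, by omega⟩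
    have h7 : 1 + r + r ^ 2 = 9 * (q * q + q) + 3 := by rw [hq]; ring
    rw [h7] at h6
    omega
  by_cases h4 : cr w2 (wi r w2 1) = 0
  · exact ts_false h hA hn hn1 hm0 hs B2 hw2 h4
  · have B3 := B2.cr hs hP 1 h4
    refine ts_false h hA hn hn1 hm0 hs B3 ?_ ?_
    · have h5 := sh_cr w2 (wi r w2 1)
      have hz : cr (0 : I27 → AlgebraicClosure F) 0 = 0 := by
        have := cr_smul_left (0 : AlgebraicClosure F) (0 : I27 → AlgebraicClosure F) 0
        rwa [zero_smul, zero_smul] at this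
      have ht0 : ∀ x : I27 → AlgebraicClosure F, tf 0 x = 0 := fun x => by
        have := tf_smul_left (0 : AlgebraicClosure F) (0 : I27 → AlgebraicClosure F) x
        rwa [zero_smul, zero_mul] at this
      rw [hw2, hsh, hz, add_zero, ht0, tf_comm, ht0, zero_smul, zero_smul, add_zero] at h5
      exact h5
    · rw [wi_cr hs, wi_wi]
      have h5 := cr_cr (wi r w2 1) w2 (wi r w2 2)
      have hz : ∀ x, cr (0 : I27 → AlgebraicClosure F) x = 0 := fun x => by
        have := cr_smul_left (0 : AlgebraicClosure F) (0 : I27 → AlgebraicClosure F) x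
        rwa [zero_smul, zero_smul] at this
      have ht0 : ∀ x : I27 → AlgebraicClosure F, tf 0 x = 0 := fun x => by
        have := tf_smul_left (0 : AlgebraicClosure F) (0 : I27 → AlgebraicClosure F) x
        rwa [zero_smul, zero_mul] at this
      rw [hsh, hz, add_zero, ht0, ht0, zero_smul, zero_smul, add_zero, zero_add, ← tf_cr, cr_comm (wi r w2 1) w2, htri,
        zero_smul] at h5
      exact h5

end main

end Cfsg.Agent.R2.H8.NoFix.Main
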